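import Groth.Agent.BrnchLib.ComplMin
import Mathlib.RingTheory.KrullDimension.Basic
import Mathlib.RingTheory.Henselian
import Mathlib.Tactic.ComputeDegree

/-! Branches do not split in dimension one under flat extensions with the same residue field. -/

noncomputable section

namespace Groth.Agent.BrnchLib

universe u

open IsLocalRing Polynomial

variable {S T : Type u} [CommRing S] [HenselianLocalRing S] [CommRing T] [IsLocalRing T]
  [Algebra S T]

theorem exists_sub_mem_pow (hm : (maximalIdeal S).map (algebraMap S T) = maximalIdeal T)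
    (hres : ∀ t : T, ∃ s : S, t - algebraMap S T s ∈ maximalIdeal T) (n : ℕ) :
    ∀ t : T, ∃ s : S, t - algebraMap S T s ∈ maximalIdeal T ^ n := by
  induction n with
  | zero => exact fun t => ⟨0, by simp⟩
  | succ n ih =>
    intro t
    obtain ⟨s, hs⟩ := ih t
    have key : ∀ x ∈ Ideal.span (algebraMap S T '' ((maximalIdeal S ^ n : Ideal S) : Set S)),
        x ∈ maximalIdeal T ^ n ∧ ∃ s' : S, x - algebraMap S T s' ∈ maximalIdeal T ^ (n + 1) := by
      intro x hx
      induction hx using Submodule.span_induction with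
      | mem y hy =>
        obtain ⟨m, hm', rfl⟩ := hy
        refine ⟨?_, m, by simp⟩
        rw [← hm, ← Ideal.map_pow]
        exact Ideal.mem_map_of_mem _ hm'
      | zero => exact ⟨zero_mem _, 0, by simp⟩
      | add a b _ _ ha hb =>
        obtain ⟨s₁, h₁⟩ := ha.2
        obtain ⟨s₂, h₂⟩ := hb.2
        refine ⟨add_mem ha.1 hb.1, s₁ + s₂, ?_⟩
        rw [map_add, add_sub_add_comm]
        exact add_mem h₁ h₂
      | smul c a _ ha =>
        obtain ⟨s₁, h₁⟩ := ha.2
        obtain ⟨r, hr⟩ := hres c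
        refine ⟨Ideal.mul_mem_left _ c ha.1, r * s₁, ?_⟩
        have e : c • a - algebraMap S T (r * s₁) =
            (c - algebraMap S T r) * a + algebraMap S T r * (a - algebraMap S T s₁) := by
          rw [smul_eq_mul, map_mul]; ring
        rw [e]
        refine add_mem ?_ (Ideal.mul_mem_left _ _ h₁)
        rw [pow_succ']
        exact Ideal.mul_mem_mul hr ha.1
    have hs' : t - algebraMap S T s ∈ Ideal.map (algebraMap S T) (maximalIdeal S ^ n) := by
      rwa [Ideal.map_pow, hm]
    obtain ⟨-, s', h'⟩ := key _ hs'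
    exact ⟨s + s', by rw [map_add, ← sub_sub]; exact h'⟩

variable [IsNoetherianRing T] [Ring.KrullDimLE 1 T]

/-- A minimal prime of a henselian local ring has one minimal prime above it in such an extension. -/
theorem comap_injOn_minimalPrimes (hff : Module.FaithfullyFlat S T)
    (hm : (maximalIdeal S).map (algebraMap S T) = maximalIdeal T)
    (hres : ∀ t : T, ∃ s : S, t - algebraMap S T s ∈ maximalIdeal T)
    {P₁ P₂ : Ideal T} (h₁ : P₁ ∈ minimalPrimes T) (h₂ : P₂ ∈ minimalPrimes T)
    (he : P₁.comap (algebraMap S T) = P₂.comap (algebraMap S T)) : P₁ = P₂ := by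
  classical
  by_contra hne
  set f := algebraMap S T with hf
  have hff' : letI := f.toAlgebra; Module.FaithfullyFlat S T := by
    convert hff; exact Algebra.algebra_ext _ _ fun r => rfl
  haveI := h₁.1.1
  haveI := h₂.1.1
  set q := P₁.comap f with hq
  haveI hqp : q.IsPrime := Ideal.IsPrime.comap f
  obtain ⟨x, hx, hxq⟩ : ∃ x ∈ maximalIdeal S, x ∉ q := by
    by_contra! hc
    have hP : ∀ P : Ideal T, P.IsPrime → P.comap f = q → P = maximalIdeal T := fun P hP hPq =>
      le_antisymm (le_maximalIdeal hP.ne_top)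
        (hm ▸ Ideal.map_le_iff_le_comap.2 (hPq ▸ fun a ha => hc a ha))
    exact hne ((hP P₁ h₁.1.1 rfl).trans (hP P₂ h₂.1.1 he.symm).symm)
  have hmax : ∀ P : Ideal T, P.IsPrime → P ∈ minimalPrimes T ∨ P = maximalIdeal T := fun P hP =>
    (Ring.krullDimLE_one_iff.1 inferInstance P hP).imp id fun h => eq_maximalIdeal h
  have hfin := minimalPrimes.finite_of_isNoetherianRing T
  set J : Ideal T := (hfin.toFinset.erase P₁).inf id with hJ
  obtain ⟨N, hN⟩ := IsNoetherianRing.isNilpotent_nilradical T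
  have hle : P₁ * J ≤ nilradical T := by
    rw [← (show sInf (minimalPrimes T) = nilradical T from Ideal.sInf_minimalPrimes)]
    refine le_sInf fun P hP => ?_
    rcases eq_or_ne P P₁ with rfl | hPne
    · exact Ideal.mul_le_left.trans le_rfl
    · exact Ideal.mul_le_right.trans (Finset.inf_le (f := id) (Finset.mem_erase.2 ⟨hPne, hfin.mem_toFinset.2 hP⟩))
  have hzero : P₁ ^ (N + 1) * J ^ (N + 1) = ⊥ := by
    rw [← mul_pow, eq_bot_iff, pow_succ]
    refine Ideal.mul_le_left.trans ((Ideal.pow_right_mono hle N).trans ?_)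
    rw [hN]; rfl
  have hrad : f x ∈ (P₁ ^ (N + 1) ⊔ J ^ (N + 1)).radical := by
    rw [Ideal.radical_eq_sInf, Ideal.mem_sInf]
    rintro P ⟨hP, hPp⟩
    rcases hmax P hPp with hmin | rfl
    · exfalso
      have hP1 : P₁ ≤ P := hPp.le_of_pow_le (le_sup_left.trans hP)
      have hPJ : J ≤ P := hPp.le_of_pow_le (le_sup_right.trans hP)
      obtain ⟨P', hP', hP'le⟩ := hPp.inf_le'.1 hPJ
      obtain ⟨hP'ne, hP'min⟩ := Finset.mem_erase.1 hP'
      rw [hfin.mem_toFinset] at hP'min
      have e1 : P = P₁ := le_antisymm (hmin.2 h₁.1 hP1) hP1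
      rw [e1] at hP'le
      exact hP'ne (le_antisymm hP'le (h₁.2 hP'min.1 hP'le))
    · rw [← hm]; exact Ideal.mem_map_of_mem f hx
  obtain ⟨k, hk⟩ := hrad
  obtain ⟨u₀, hu₀, v₀, hv₀, huv⟩ := Submodule.mem_sup.1 hk
  set y := x ^ k * x with hy
  have hym : y ∈ maximalIdeal S := Ideal.mul_mem_left _ _ hx
  have hyq : y ∉ q := fun h => (hqp.mem_or_mem h).elim (fun h => hxq (hqp.mem_of_pow_mem _ h)) hxq
  set u := u₀ * f x with hu
  have hu1 : u ∈ P₁ := Ideal.mul_mem_right _ _ (Ideal.pow_le_self (by omega) hu₀)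
  have hv2 : f y - u ∈ P₂ := by
    have : f y - u = v₀ * f x := by rw [hy, hu, map_mul, map_pow, ← huv]; ring
    rw [this]
    refine Ideal.mul_mem_right _ _ ?_
    exact Finset.inf_le (f := id) (Finset.mem_erase.2 ⟨Ne.symm hne, hfin.mem_toFinset.2 h₂⟩)
      (Ideal.pow_le_self (by omega) hv₀)
  have huu : u * (u - f y) = 0 := by
    have h0 : u₀ * v₀ = 0 := (Ideal.mem_bot).1 (hzero ▸ Ideal.mul_mem_mul hu₀ hv₀)
    rw [hy, hu, map_mul, map_pow, ← huv]
    linear_combination -((f x) ^ 2 * h0)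
  set K : Ideal T := Ideal.map f (Ideal.span {y ^ 3} ⊔ q) with hK
  have hKrad : maximalIdeal T ≤ K.radical := by
    rw [Ideal.radical_eq_sInf]
    refine le_sInf ?_
    rintro P ⟨hP, hPp⟩
    rcases hmax P hPp with hmin | rfl
    · exfalso
      rw [hK, Ideal.map_le_iff_le_comap, sup_le_iff, Ideal.span_singleton_le_iff_mem] at hP
      haveI := hPp
      have hmin' := comap_mem_minimalPrimes f hff' hmin
      have hqmin : q ∈ minimalPrimes S := comap_mem_minimalPrimes f hff' h₁
      exact hyq (hmin'.2 hqmin.1 hP.2 (hmin'.1.1.mem_of_pow_mem _ hP.1))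
    · exact le_rfl
  obtain ⟨n, hn⟩ := Ideal.exists_pow_le_of_le_radical_of_fg hKrad (IsNoetherian.noetherian _)
  obtain ⟨a, ha⟩ := exists_sub_mem_pow hm hres n u
  replace ha : u - f a ∈ K := hn ha
  have haa : a * (a - y) ∈ Ideal.span {y ^ 3} ⊔ q := by
    haveI := hff
    rw [← Ideal.comap_map_eq_self_of_faithfullyFlat (B := T) (Ideal.span {y ^ 3} ⊔ q),
      Ideal.mem_comap]
    have : f (a * (a - y)) = u * (u - f y) - (u - f a) * (u + f a - f y) := by
      rw [map_mul, map_sub]; ring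
    change f (a * (a - y)) ∈ K
    rw [this, huu, zero_sub, neg_mem_iff]
    exact Ideal.mul_mem_right _ _ ha
  obtain ⟨w, hw, r, hr, hwr⟩ := Submodule.mem_sup.1 haa
  obtain ⟨c, rfl⟩ := Ideal.mem_span_singleton'.1 hw
  have hmon : (X ^ 2 - X - C (c * y) : S[X]).Monic := by monicity!
  obtain ⟨z, hz, hz0⟩ := HenselianLocalRing.is_henselian _ hmon 0
    (by simpa using Ideal.mul_mem_left _ c hym) (by simp [derivative_sub])
  rw [sub_zero] at hz0
  have hz' : z ^ 2 - z - c * y = 0 := by simpa using hz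
  have hprod : (a - y * z) * (a + y * z - y) ∈ q := by
    have : (a - y * z) * (a + y * z - y) = r := by
      linear_combination (-1 : S) * hwr - y ^ 2 * hz'
    rwa [this]
  rw [hK, Ideal.map_sup, Ideal.map_span, Set.image_singleton] at ha
  obtain ⟨w', hw', r', hr', hwr'⟩ := Submodule.mem_sup.1 ha
  obtain ⟨t, rfl⟩ := Ideal.mem_span_singleton'.1 hw'
  have hq1 : Ideal.map f q ≤ P₁ := Ideal.map_comap_le
  have hq2 : Ideal.map f q ≤ P₂ := he ▸ Ideal.map_comap_le
  have hunit : ∀ m ∈ maximalIdeal T, ∀ P : Ideal T, P.IsPrime → (1 - m) ∉ P := fun m hm' P hP h =>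
    hP.ne_top (Ideal.eq_top_of_isUnit_mem _ h (isUnit_one_sub_self_of_mem_nonunits m hm'))
  have hfm : ∀ s ∈ maximalIdeal S, f s ∈ maximalIdeal T := fun s hs => hm ▸ Ideal.mem_map_of_mem f hs
  rcases hqp.mem_or_mem hprod with hc | hc
  · have hy2 : f y ∉ P₂ := fun h => hyq (he ▸ h)
    have e : f y * (1 - (f z + t * f y ^ 2)) = (f y - u) + (f (a - y * z) + r') := by
      simp only [map_sub, map_mul, map_pow] at hwr' ⊢
      linear_combination -hwr'
    refine hunit _ (add_mem (hfm _ hz0) (Ideal.mul_mem_left _ t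
      (Ideal.pow_mem_of_mem _ (hfm _ hym) 2 two_pos))) P₂ inferInstance
      ((h₂.1.1.mem_or_mem ?_).resolve_left hy2)
    rw [e]
    exact add_mem hv2 (add_mem (show f (a - y * z) ∈ P₂ from (he.le : _) hc) (hq2 hr'))
  · have hy1 : f y ∉ P₁ := hyq
    have e : f y * (1 - (f z - t * f y ^ 2)) = u - (f (a + y * z - y) + r') := by
      simp only [map_sub, map_add, map_mul, map_pow] at hwr' ⊢
      linear_combination hwr'
    refine hunit _ (sub_mem (hfm _ hz0) (Ideal.mul_mem_left _ t
      (Ideal.pow_mem_of_mem _ (hfm _ hym) 2 two_pos))) P₁ inferInstance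
      ((h₁.1.1.mem_or_mem ?_).resolve_left hy1)
    rw [e]
    exact sub_mem hu1 (add_mem hc (hq1 hr'))

theorem card_minimalPrimes_eq (hff : Module.FaithfullyFlat S T)
    (hm : (maximalIdeal S).map (algebraMap S T) = maximalIdeal T)
    (hres : ∀ t : T, ∃ s : S, t - algebraMap S T s ∈ maximalIdeal T) :
    ENat.card (minimalPrimes T) = ENat.card (minimalPrimes S) := by
  have hff' : letI := (algebraMap S T).toAlgebra; Module.FaithfullyFlat S T := by
    convert hff; exact Algebra.algebra_ext _ _ fun r => rfl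
  refine ENat.card_congr (Equiv.ofBijective
    (fun P => ⟨P.1.comap (algebraMap S T), comap_mem_minimalPrimes _ hff' P.2⟩) ⟨?_, ?_⟩)
  · exact fun P Q h => Subtype.ext (comap_injOn_minimalPrimes hff hm hres P.2 Q.2 (congrArg Subtype.val h))
  · intro q
    obtain ⟨P, hP, h⟩ := surjOn_minimalPrimes (algebraMap S T) hff' q.2
    exact ⟨⟨P, hP⟩, Subtype.ext h⟩

end Groth.Agent.BrnchLib
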