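import Groth.Agent.S9242
import Groth.Agent.Hensel.HenselizationLoc
import Mathlib.RingTheory.Ideal.MinimalPrime.Basic

/-! One-dimensional components along completion-like extensions of henselian local rings. -/

noncomputable section

namespace Groth.Agent.BrnchLib

universe u

open IsLocalRing

set_option linter.style.haveILetI false

/-- The hypotheses on completion-like extensions pass to quotients. -/
theorem quotient_ext {S T : Type u} [CommRing S] [HenselianLocalRing S] [CommRing T] [IsLocalRing T]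
    [Algebra S T] (hff : Module.FaithfullyFlat S T)
    (hm : (maximalIdeal S).map (algebraMap S T) = maximalIdeal T)
    (hres : ∀ t : T, ∃ s : S, t - algebraMap S T s ∈ maximalIdeal T) (I : Ideal S) (hI : I ≠ ⊤) :
    ∃ (_ : HenselianLocalRing (S ⧸ I)) (_ : IsLocalRing (T ⧸ I.map (algebraMap S T))),
      letI := (Ideal.quotientMap (I.map (algebraMap S T)) (algebraMap S T) Ideal.le_comap_map).toAlgebra
      Module.FaithfullyFlat (S ⧸ I) (T ⧸ I.map (algebraMap S T)) ∧
      (maximalIdeal (S ⧸ I)).map (algebraMap (S ⧸ I) (T ⧸ I.map (algebraMap S T))) = maximalIdeal (T ⧸ I.map (algebraMap S T)) ∧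
      ∀ t : T ⧸ I.map (algebraMap S T), ∃ s : S ⧸ I,
        t - algebraMap (S ⧸ I) (T ⧸ I.map (algebraMap S T)) s ∈ maximalIdeal (T ⧸ I.map (algebraMap S T)) := by
  haveI := hff
  set f := algebraMap S T
  set K := I.map f
  have hKtop : K ≠ ⊤ := fun e =>
    hI (by rw [← Ideal.comap_map_eq_self_of_faithfullyFlat (B := T) I, show I.map (algebraMap S T) = ⊤ from e, Ideal.comap_top])
  haveI : Nontrivial (T ⧸ K) := Ideal.Quotient.nontrivial_iff.2 hKtop
  haveI : Nontrivial (S ⧸ I) := Ideal.Quotient.nontrivial_iff.2 hI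
  haveI hH : HenselianLocalRing (S ⧸ I) := IsoNatLib.henselianLocalRing_quotient I hI
  haveI hL : IsLocalRing (T ⧸ K) := IsLocalRing.of_surjective' _ Ideal.Quotient.mk_surjective
  letI : Algebra (S ⧸ I) (T ⧸ K) := (Ideal.quotientMap K f Ideal.le_comap_map).toAlgebra
  haveI : Module.Flat (S ⧸ I) (T ⧸ K) :=
    RingHom.flat_algebraMap_iff.1 (Synt29.FlatFS.flat_quotientMap I)
  have hmS : maximalIdeal (S ⧸ I) = (maximalIdeal S).map (Ideal.Quotient.mk I) :=
    (map_maximalIdeal_of_surjective _ Ideal.Quotient.mk_surjective).symm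
  have hmT : maximalIdeal (T ⧸ K) = (maximalIdeal T).map (Ideal.Quotient.mk K) :=
    (map_maximalIdeal_of_surjective _ Ideal.Quotient.mk_surjective).symm
  have hcomp : (algebraMap (S ⧸ I) (T ⧸ K)).comp (Ideal.Quotient.mk I) =
      (Ideal.Quotient.mk K).comp f := RingHom.ext fun x => rfl
  have hm' : (maximalIdeal (S ⧸ I)).map (algebraMap (S ⧸ I) (T ⧸ K)) = maximalIdeal (T ⧸ K) := by
    rw [hmS, hmT, Ideal.map_map, hcomp, ← Ideal.map_map, hm]
  haveI : IsLocalHom (algebraMap (S ⧸ I) (T ⧸ K)) := ⟨fun x hx => by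
    by_contra hn
    exact (Ideal.map_le_iff_le_comap.1 hm'.le hn) hx⟩
  refine ⟨hH, hL, Module.FaithfullyFlat.of_flat_of_isLocalHom, hm', fun t => ?_⟩
  obtain ⟨t, rfl⟩ := Ideal.Quotient.mk_surjective t
  obtain ⟨s, hs⟩ := hres t
  refine ⟨Ideal.Quotient.mk I s, ?_⟩
  rw [hmT, show algebraMap (S ⧸ I) (T ⧸ K) (Ideal.Quotient.mk I s) = Ideal.Quotient.mk K (f s) from rfl, ← map_sub]
  exact Ideal.mem_map_of_mem _ hs

theorem ringKrullDim_quotient_map_eq {S T : Type u} [CommRing S] [HenselianLocalRing S] [IsNoetherianRing S]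
    [CommRing T] [IsLocalRing T] [IsNoetherianRing T] [Algebra S T] (hff : Module.FaithfullyFlat S T)
    (hm : (maximalIdeal S).map (algebraMap S T) = maximalIdeal T)
    (hres : ∀ t : T, ∃ s : S, t - algebraMap S T s ∈ maximalIdeal T) (I : Ideal S) (hI : I ≠ ⊤) :
    ringKrullDim (T ⧸ I.map (algebraMap S T)) = ringKrullDim (S ⧸ I) := by
  obtain ⟨_, _, hd⟩ := quotient_ext hff hm hres I hI
  letI := (Ideal.quotientMap (I.map (algebraMap S T)) (algebraMap S T) Ideal.le_comap_map).toAlgebra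
  obtain ⟨hff', hm', -⟩ := hd
  haveI : IsLocalHom (algebraMap (S ⧸ I) (T ⧸ I.map (algebraMap S T))) := ⟨fun x hx => by
    by_contra hn
    exact (Ideal.map_le_iff_le_comap.1 hm'.le hn) hx⟩
  haveI := hff'
  exact Hensel.ringKrullDim_eq_of_flat_of_map_maximalIdeal_eq hm'

theorem ringKrullDim_quotient_radical {R : Type u} [CommRing R] (I : Ideal R) :
    ringKrullDim (R ⧸ I.radical) = ringKrullDim (R ⧸ I) := by
  rw [ringKrullDim_quotient, ringKrullDim_quotient, PrimeSpectrum.zeroLocus_radical]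

theorem one_le_ringKrullDim_quotient {R : Type u} [CommRing R] [IsLocalRing R] {P : Ideal R} [P.IsPrime]
    (h : P ≠ maximalIdeal R) : 1 ≤ ringKrullDim (R ⧸ P) := by
  rw [ringKrullDim_quotient, Order.one_le_krullDim_iff]
  refine ⟨⟨⟨P, ‹_›⟩, le_refl P⟩, ⟨closedPoint R, le_maximalIdeal (Ideal.IsPrime.ne_top ‹_›)⟩, ?_⟩
  exact lt_of_le_of_ne (le_maximalIdeal (Ideal.IsPrime.ne_top ‹_›)) fun e =>
    h (congrArg (fun x => x.1.asIdeal) e)

/-- Components of dimension one correspond. -/
theorem exists_dim_one_iff {S T : Type u} [CommRing S] [HenselianLocalRing S] [IsNoetherianRing S]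
    [CommRing T] [IsLocalRing T] [IsNoetherianRing T] [Algebra S T] (hff : Module.FaithfullyFlat S T)
    (hm : (maximalIdeal S).map (algebraMap S T) = maximalIdeal T)
    (hres : ∀ t : T, ∃ s : S, t - algebraMap S T s ∈ maximalIdeal T) :
    (∃ P ∈ minimalPrimes S, ringKrullDim (S ⧸ P) = 1) ↔
      ∃ Q ∈ minimalPrimes T, ringKrullDim (T ⧸ Q) = 1 := by
  haveI := hff
  have hff' : letI := (algebraMap S T).toAlgebra; Module.FaithfullyFlat S T := by
    convert hff; exact Algebra.algebra_ext _ _ fun r => rfl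
  constructor
  · rintro ⟨P, hP, hdim⟩
    haveI := hP.1.1
    obtain ⟨⟨Q, hQ⟩⟩ := Ideal.nonempty_minimalPrimes (I := P.map (algebraMap S T)) fun e => hP.1.1.ne_top (by
        rw [← Ideal.comap_map_eq_self_of_faithfullyFlat (B := T) P, e, Ideal.comap_top])
    obtain ⟨hQmin, hQP⟩ := (mem_minimalPrimes_map_iff (algebraMap S T) hff' hP).1 hQ
    refine ⟨Q, hQmin, le_antisymm ?_ ?_⟩
    · rw [← hdim, ← ringKrullDim_quotient_map_eq hff hm hres P hP.1.1.ne_top]
      exact ringKrullDim_le_of_surjective (Ideal.Quotient.factor hQ.1.2) (Ideal.Quotient.factor_surjective _)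
    · haveI := hQmin.1.1
      refine one_le_ringKrullDim_quotient fun e => ?_
      have hPm : maximalIdeal S ≤ P := by
        rw [← hQP, e]; exact Ideal.map_le_iff_le_comap.1 hm.le
      have hPe : P = maximalIdeal S := le_antisymm (le_maximalIdeal hP.1.1.ne_top) hPm
      subst hPe
      letI := Ideal.Quotient.field (maximalIdeal S)
      rw [ringKrullDim_eq_zero_of_field] at hdim
      exact zero_ne_one hdim
  · rintro ⟨Q, hQ, hdim⟩
    haveI := hQ.1.1
    refine ⟨Q.comap (algebraMap S T), comap_mem_minimalPrimes _ hff' hQ, ?_⟩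
    rw [← ringKrullDim_quotient_map_eq hff hm hres _ (Ideal.IsPrime.comap _).ne_top,
      ← ringKrullDim_quotient_radical, S9242.radical_map_comap_eq hff hm hres hQ hdim]
    exact hdim

theorem minimalPrimes_quotient_dim {R : Type u} [CommRing R] (I : Ideal R) (d : WithBot ℕ∞) :
    (∃ P ∈ minimalPrimes (R ⧸ I), ringKrullDim ((R ⧸ I) ⧸ P) = d) ↔
      ∃ P ∈ I.minimalPrimes, ringKrullDim (R ⧸ P) = d := by
  have key : ∀ P : Ideal (R ⧸ I), ringKrullDim ((R ⧸ I) ⧸ P) = ringKrullDim (R ⧸ P.comap (Ideal.Quotient.mk I)) := by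
    intro P
    have hle : I ≤ P.comap (Ideal.Quotient.mk I) := fun x hx => by
      rw [Ideal.mem_comap, Ideal.Quotient.eq_zero_iff_mem.2 hx]; exact zero_mem _
    have hP : (P.comap (Ideal.Quotient.mk I)).map (Ideal.Quotient.mk I) = P :=
      Ideal.map_comap_of_surjective _ Ideal.Quotient.mk_surjective P
    exact ringKrullDim_eq_of_ringEquiv
      ((Ideal.quotEquivOfEq hP.symm).trans (DoubleQuot.quotQuotEquivQuotOfLE hle))
  rw [Ideal.minimalPrimes_eq_comap (I := I)]
  constructor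
  · rintro ⟨P, hP, h⟩; exact ⟨_, ⟨P, hP, rfl⟩, (key P).symm.trans h⟩
  · rintro ⟨_, ⟨P, hP, rfl⟩, h⟩; exact ⟨P, hP, (key P).trans h⟩

/-- Components of dimension one over an extended ideal correspond. -/
theorem exists_dim_one_iff_ideal {S T : Type u} [CommRing S] [HenselianLocalRing S] [IsNoetherianRing S]
    [CommRing T] [IsLocalRing T] [IsNoetherianRing T] [Algebra S T] (hff : Module.FaithfullyFlat S T)
    (hm : (maximalIdeal S).map (algebraMap S T) = maximalIdeal T)
    (hres : ∀ t : T, ∃ s : S, t - algebraMap S T s ∈ maximalIdeal T) (I : Ideal S) (hI : I ≠ ⊤) :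
    (∃ P ∈ I.minimalPrimes, ringKrullDim (S ⧸ P) = 1) ↔
      ∃ Q ∈ (I.map (algebraMap S T)).minimalPrimes, ringKrullDim (T ⧸ Q) = 1 := by
  obtain ⟨_, _, hd⟩ := quotient_ext hff hm hres I hI
  letI := (Ideal.quotientMap (I.map (algebraMap S T)) (algebraMap S T) Ideal.le_comap_map).toAlgebra
  obtain ⟨hff', hm', hres'⟩ := hd
  exact ((minimalPrimes_quotient_dim I 1).symm.trans (exists_dim_one_iff hff' hm' hres')).trans
    (minimalPrimes_quotient_dim _ 1)

end Groth.Agent.BrnchLib
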