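import Groth.Agent.BrnchLib.PuncturedDecomp
import Groth.Agent.BrnchLib.ComplMin
import Groth.Agent.CompleteNagata.Unramified
import Groth.Agent.Hensel.IntegralStrict
import Groth.Agent.EGA41Lib.IntDim
import Mathlib.RingTheory.Ideal.KrullsHeightTheorem
import Mathlib.RingTheory.Nakayama

/-! Components of flat local extensions of complete local rings with components of dimension at least two. -/

noncomputable section

namespace Groth.Agent.BrnchLib

universe u

open IsLocalRing TensorProduct

set_option linter.style.haveILetI false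

/-- Two elements of depth two. -/
theorem exists_pair_of_integrallyClosed_in (R : Type u) [CommRing R] [IsNoetherianRing R]
    (K : Type u) [Field K] [Algebra R K] (N : Subalgebra R K) [IsLocalRing N] [Module.Finite R N]
    (hcl : ∀ w : K, IsIntegral R w → w ∈ N) (hdim : ¬ ringKrullDim N ≤ 1) :
    ∃ x y : N, x ∈ maximalIdeal N ∧ y ∈ maximalIdeal N ∧ x ≠ 0 ∧
      ∀ z : N, y * z ∈ Ideal.span {x} → z ∈ Ideal.span {x} := by
  haveI : IsNoetherianRing N := IsNoetherianRing.of_finite R N
  have hnp : ∀ a : N, maximalIdeal N ≠ Ideal.span {a} := fun a ha => hdim (by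
    rw [← maximalIdeal_height_eq_ringKrullDim]
    exact WithBot.coe_le_coe.2 (Ideal.height_le_one_of_isPrincipal_of_mem_minimalPrimes (Ideal.span {a}) _
      ⟨⟨inferInstance, ha.ge⟩, fun Q hQ _ => ha.le.trans hQ.2⟩))
  obtain ⟨x, hx, hx0⟩ : ∃ x ∈ maximalIdeal N, x ≠ 0 := by
    by_contra! h
    exact hnp 0 (by rw [Ideal.span_singleton_eq_bot.2 rfl, eq_bot_iff]; exact fun z hz => (Ideal.mem_bot).2 (h z hz))
  have htop : Ideal.span {x} ≠ ⊤ := fun e =>
    (maximalIdeal.isMaximal N).ne_top (top_le_iff.1 (e ▸ (Ideal.span_singleton_le_iff_mem _).2 hx))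
  haveI : Nontrivial (N ⧸ Ideal.span {x}) := Ideal.Quotient.nontrivial_iff.2 htop
  haveI : IsLocalRing (N ⧸ Ideal.span {x}) := IsLocalRing.of_surjective' _ Ideal.Quotient.mk_surjective
  obtain ⟨y, hy, hyr⟩ := exists_mem_nonZeroDivisors (R := N ⧸ Ideal.span {x}) fun z hz => by
    obtain ⟨z, rfl⟩ := Ideal.Quotient.mk_surjective z
    rw [Ideal.Quotient.eq_zero_iff_mem]
    have hz' : ∀ m ∈ maximalIdeal N, ∃ c, c * x = m * z := fun m hm => by
      have := hz (Ideal.Quotient.mk _ m) (by
        rw [← map_maximalIdeal_of_surjective _ Ideal.Quotient.mk_surjective]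
        exact Ideal.mem_map_of_mem _ hm)
      rw [← map_mul, Ideal.Quotient.eq_zero_iff_mem] at this
      exact Ideal.mem_span_singleton'.1 this
    choose c hc using hz'
    by_cases hall : ∀ m (hm : m ∈ maximalIdeal N), c m hm ∈ maximalIdeal N
    · have hx0' : (x : K) ≠ 0 := fun e => hx0 (Subtype.ext e)
      let w : K := (z : K) / (x : K)
      let M : Submodule R K := ((maximalIdeal N).restrictScalars R).map N.val.toLinearMap
      have hM : M.FG := (IsNoetherian.noetherian _).map _
      have hMne : M ≠ ⊥ := by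
        rw [Submodule.ne_bot_iff]
        exact ⟨_, ⟨x, hx, rfl⟩, hx0'⟩
      have hw := isIntegral_of_smul_mem_submodule M hMne hM w (by
        rintro _ ⟨m, hm, rfl⟩
        refine ⟨c m hm, hall m hm, ?_⟩
        change (c m hm : K) = w * (m : K)
        rw [div_mul_eq_mul_div, eq_div_iff hx0', mul_comm (z : K)]
        exact congrArg Subtype.val (hc m hm))
      refine Ideal.mem_span_singleton'.2 ⟨⟨w, hcl w hw⟩, Subtype.ext ?_⟩
      change w * (x : K) = z
      exact div_mul_cancel₀ _ hx0'
    · push Not at hall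
      obtain ⟨a, ha, hca⟩ := hall
      obtain ⟨v, hv⟩ := (IsLocalRing.notMem_maximalIdeal.1 hca).exists_left_inv
      refine absurd (le_antisymm (fun b hb => ?_) ((Ideal.span_singleton_le_iff_mem _).2 ha)) (hnp a)
      refine Ideal.mem_span_singleton'.2 ⟨v * c b hb, ?_⟩
      have hxc : c b hb * a * x = b * c a ha * x := by
        linear_combination a * hc b hb - b * hc a ha
      linear_combination v * (mul_right_cancel₀ hx0 hxc) + b * hv
  obtain ⟨y, rfl⟩ := Ideal.Quotient.mk_surjective y
  refine ⟨x, y, hx, ?_, hx0, fun z hz => ?_⟩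
  · intro hu
    exact hy (hu.map _)
  · rw [← Ideal.Quotient.eq_zero_iff_mem]
    refine (mem_nonZeroDivisors_iff.1 hyr).1 _ ?_
    rw [← map_mul, Ideal.Quotient.eq_zero_iff_mem]
    exact hz

/-- A minimal prime with a depth-two pair in every closed point has no curve inside. -/
theorem not_component_of_pair {C : Type u} [CommRing C] [IsNoetherianRing C] (Q : Ideal C)
    (hQ : Q ∈ minimalPrimes C) (x y : C) (hjac : x ∈ Ideal.jacobson (⊥ : Ideal C))
    (hx : ∀ z, x * z = 0 → z = 0) (hy : ∀ z, y * z ∈ Ideal.span {x} → z ∈ Ideal.span {x})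
    (hrad : y ∈ (Q ⊔ Ideal.span {x}).radical) : False := by
  haveI := hQ.1.1
  let M : Ideal C := Submodule.colon (⊥ : Ideal C) (Q : Set C)
  have hM : ∀ z, z ∈ M ↔ ∀ a ∈ Q, z * a = 0 := fun z => by
    simp [M, Submodule.mem_colon, Submodule.mem_annihilator]
  have hle : M ≤ Ideal.span {x} • M := by
    intro z hz
    obtain ⟨k, hk⟩ := hrad
    obtain ⟨a, ha, b, hb, hab⟩ := Submodule.mem_sup.1 hk
    obtain ⟨b, rfl⟩ := Ideal.mem_span_singleton'.1 hb
    have hyk : y ^ k * z ∈ Ideal.span {x} := by
      refine Ideal.mem_span_singleton'.2 ⟨b * z, ?_⟩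
      linear_combination z * hab - ((hM z).1 hz a ha)
    have hzx : ∀ k, y ^ k * z ∈ Ideal.span {x} → z ∈ Ideal.span {x} := fun k => by
      induction k with
      | zero => simp
      | succ k ih => exact fun h => ih (hy _ (by rwa [← mul_assoc, ← pow_succ']))
    obtain ⟨w, rfl⟩ := Ideal.mem_span_singleton'.1 (hzx k hyk)
    have hw : w ∈ M := (hM w).2 fun a ha => hx _ (by
      linear_combination (hM _).1 hz a ha)
    rw [mul_comm]
    exact Submodule.smul_mem_smul (Ideal.mem_span_singleton_self x) hw
  have hbot : M = ⊥ := Submodule.eq_bot_of_le_smul_of_le_jacobson_bot _ M (IsNoetherian.noetherian M) hle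
    ((Ideal.span_singleton_le_iff_mem _).2 hjac)
  have hQa : Q ∈ associatedPrimes C C :=
    Module.associatedPrimes.minimalPrimes_annihilator_subset_associatedPrimes C C (by
      rw [show Module.annihilator C C = ⊥ from eq_bot_iff.2 fun a ha => by
        simpa using Module.mem_annihilator.1 ha 1]
      exact hQ)
  obtain ⟨z, hz⟩ := hQa.2
  obtain ⟨n, hn⟩ := Ideal.exists_pow_le_of_le_radical_of_fg hz.le (IsNoetherian.noetherian _)
  have key : ∀ n, ∀ z : C, (∀ q ∈ Q ^ n, q * z = 0) → z = 0 := by
    intro n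
    induction n with
    | zero => exact fun z hz => by simpa using hz 1 (by simp)
    | succ n ih =>
      intro z hz
      refine ih z fun q hq => ?_
      have : q * z ∈ M := (hM _).2 fun a ha => by
        rw [mul_comm (q * z), ← mul_assoc]
        exact hz _ (by rw [pow_succ']; exact Ideal.mul_mem_mul ha hq)
      rwa [hbot, Ideal.mem_bot] at this
  have hz0 : z = 0 := key n z fun q hq => by
    simpa [Submodule.mem_colon_singleton] using hn hq
  exact hQ.1.1.ne_top (by rw [hz]; simp [hz0, Ideal.radical_top])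

/-- Components of a flat local algebra over a complete local ring. -/
theorem two_le_dim_component (R T : Type u) [CommRing R] [IsLocalRing R] [IsNoetherianRing R]
    [IsAdicComplete (maximalIdeal R) R] [CommRing T] [IsLocalRing T] [IsNoetherianRing T] [Algebra R T]
    [IsLocalHom (algebraMap R T)] [Module.Flat R T]
    (h : ∀ p ∈ minimalPrimes R, (2 : WithBot ℕ∞) ≤ ringKrullDim (R ⧸ p)) :
    ∀ q ∈ minimalPrimes T, (2 : WithBot ℕ∞) ≤ ringKrullDim (T ⧸ q) := by
  intro q hq
  by_contra hlt
  haveI := hq.1.1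
  haveI hffR : Module.FaithfullyFlat R T := Module.FaithfullyFlat.of_flat_of_isLocalHom
  have hff' : letI := (algebraMap R T).toAlgebra; Module.FaithfullyFlat R T := by
    convert hffR; exact Algebra.algebra_ext _ _ fun r => rfl
  set p := q.comap (algebraMap R T) with hpdef
  have hp : p ∈ minimalPrimes R := comap_mem_minimalPrimes _ hff' hq
  haveI := hp.1.1
  haveI hH : HenselianLocalRing R := ⟨fun f hf a₀ h₁ h₂ =>
    (IsAdicComplete.henselianRing R (maximalIdeal R)).is_henselian f hf a₀ h₁ (h₂.map _)⟩
  let K := FractionRing (R ⧸ p)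
  let N := integralClosure R K
  haveI : Module.Finite R N := CompleteNagata.finite_integralClosure_fractionRing R (R ⧸ p)
  haveI : IsNoetherianRing N := IsNoetherianRing.of_finite R N
  haveI : Algebra.IsIntegral R N := Algebra.IsIntegral.of_finite R N
  haveI : IsLocalRing N := Hensel.isLocalRing_of_isIntegral_domain R N
  have hker : ∀ a : R, algebraMap R N a = 0 ↔ a ∈ p := fun a => by
    rw [Subtype.ext_iff]
    change algebraMap R K a = 0 ↔ _
    rw [IsScalarTower.algebraMap_apply R (R ⧸ p) K, map_eq_zero_iff _ (IsFractionRing.injective (R ⧸ p) K),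
      Ideal.Quotient.algebraMap_eq, Ideal.Quotient.eq_zero_iff_mem]
  have hdimN : ¬ ringKrullDim N ≤ 1 := by
    letI : Algebra (R ⧸ p) N := (Ideal.Quotient.lift p (algebraMap R N) fun a ha => (hker a).2 ha).toAlgebra
    haveI : IsScalarTower R (R ⧸ p) N := IsScalarTower.of_algebraMap_eq fun _ => rfl
    haveI : Algebra.IsIntegral (R ⧸ p) N := Algebra.IsIntegral.tower_top (R := R)
    rw [EGA41Lib.ringKrullDim_eq_of_integral (A := R ⧸ p) (B := N)
      (RingHom.lift_injective_of_ker_le_ideal p _ fun a ha => (hker a).1 ha)]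
    intro hle
    exact absurd ((h p hp).trans hle) (by norm_num)
  obtain ⟨x, y, hx, hy, hx0, hxy⟩ := exists_pair_of_integrallyClosed_in R K N (fun w hw => hw) hdimN
  let iR : N →+* T ⊗[R] N := (Algebra.TensorProduct.includeRight : N →ₐ[R] T ⊗[R] N).toRingHom
  let iL : T →+* T ⊗[R] N := algebraMap T (T ⊗[R] N)
  have hcomm : iR.comp (algebraMap R N) = iL.comp (algebraMap R T) := RingHom.ext fun a => by
    simp only [iR, iL, AlgHom.toRingHom_eq_coe, RingHom.comp_apply, RingHom.coe_coe, AlgHom.commutes, ← IsScalarTower.algebraMap_apply]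
  haveI : IsNoetherianRing (T ⊗[R] N) := IsNoetherianRing.of_finite T (T ⊗[R] N)
  letI : Algebra N (T ⊗[R] N) := iR.toAlgebra
  haveI : Module.Flat N (T ⊗[R] N) :=
    Module.Flat.of_linearEquiv (M := N ⊗[R] T)
      (LinearEquiv.symm
        { (Algebra.TensorProduct.comm R N T).toAddEquiv with
          map_smul' := fun b z => by
            change Algebra.TensorProduct.comm R N T (b • z) = iR b * Algebra.TensorProduct.comm R N T z
            induction z using TensorProduct.induction_on with
            | zero => simp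
            | tmul u v => simp [iR, TensorProduct.smul_tmul']
            | add u v hu hv => simp only [smul_add, map_add, mul_add, hu, hv] })
  -- a prime over q and the generic point of N
  have hqκ : ∀ a : R, algebraMap R q.ResidueField a = 0 ↔ a ∈ p := fun a => by
    rw [IsScalarTower.algebraMap_apply R T q.ResidueField, Ideal.algebraMap_residueField_eq_zero]
    rfl
  let d : R ⧸ p →+* q.ResidueField := Ideal.Quotient.lift p (algebraMap R q.ResidueField) fun a ha => (hqκ a).2 ha
  have hd : Function.Injective d := RingHom.lift_injective_of_ker_le_ideal p _ fun a ha => (hqκ a).1 ha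
  let e : K →+* q.ResidueField := IsFractionRing.lift hd
  have he : ∀ a : R, e (algebraMap R K a) = algebraMap R q.ResidueField a := fun a => by
    rw [IsScalarTower.algebraMap_apply R (R ⧸ p) K]
    exact IsFractionRing.lift_algebraMap hd _
  let ψ : T ⊗[R] N →ₐ[R] q.ResidueField := Algebra.TensorProduct.lift
    { algebraMap T q.ResidueField with commutes' := fun a => (IsScalarTower.algebraMap_apply R T q.ResidueField a).symm }
    { e.comp N.val.toRingHom with commutes' := fun a => he a } fun _ _ => Commute.all _ _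
  let Q : Ideal (T ⊗[R] N) := RingHom.ker ψ
  haveI hQp : Q.IsPrime := RingHom.ker_isPrime _
  have hQT : Q.comap iL = q := Ideal.ext fun s => by
    simp [Q, ψ, iL, Ideal.algebraMap_residueField_eq_zero]
  have hQN : ∀ z : N, iR z ∈ Q → z = 0 := fun z hz => by
    simpa [Q, ψ, iR] using hz
  have hQmin : Q ∈ minimalPrimes (T ⊗[R] N) := ⟨⟨hQp, bot_le⟩, fun Q' hQ' hle => by
    haveI := hQ'.1
    by_contra hne
    have hlt' : Q' < Q := lt_of_le_not_ge hle hne
    have h1 := Ideal.IsIntegral.comap_lt_comap (R := T) (I := Q') (J := Q) hlt'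
    exact h1.not_ge ((hQT.le).trans (hq.2 ⟨Ideal.IsPrime.comap _, bot_le⟩ (h1.le.trans hQT.le)))⟩
  have hmax : ∀ n : Ideal (T ⊗[R] N), n.IsMaximal → n.comap iR = maximalIdeal N := fun n hn => by
    haveI := hn
    haveI : (n.comap iR).IsPrime := Ideal.IsPrime.comap iR
    refine eq_maximalIdeal (Ideal.isMaximal_of_isIntegral_of_isMaximal_comap (R := R) _ ?_)
    rw [Ideal.comap_comap, hcomm, ← Ideal.comap_comap,
      eq_maximalIdeal (Ideal.isMaximal_comap_of_isIntegral_of_isMaximal (R := T) n), maximalIdeal_comap]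
    infer_instance
  refine not_component_of_pair Q hQmin (iR x) (iR y) ?_ ?_ ?_ ?_
  · rw [Ideal.jacobson, Ideal.mem_sInf]
    rintro n ⟨-, hn⟩
    exact (hmax n hn).ge hx
  · intro z hz
    have hr : IsSMulRegular N x := isSMulRegular_iff_right_eq_zero_of_smul.2 fun w hw =>
      (mul_eq_zero.1 hw).resolve_left hx0
    exact (hr.of_flat (S := T ⊗[R] N)).right_eq_zero_of_smul (by rw [smul_eq_mul]; exact hz)
  · intro z hz
    have h1 : iR y * z ∈ (Ideal.span {x}).map (algebraMap N (T ⊗[R] N)) := by
      rw [Ideal.map_span, Set.image_singleton]; exact hz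
    have h2 := ParaDef.colon_map (A := N) (T ⊗[R] N) ⊤ (Ideal.span {x}) (Ideal.span {x}) y
      (fun w _ hw => hxy w hw) z (by rw [Ideal.map_top]; trivial) h1
    rwa [Ideal.map_span, Set.image_singleton] at h2
  · rw [Ideal.radical_eq_sInf, Ideal.mem_sInf]
    rintro P ⟨hP, hPp⟩
    rw [sup_le_iff, Ideal.span_singleton_le_iff_mem] at hP
    haveI := hPp
    have hne : P.comap iL ≠ q := fun e => by
      have hPQ : P = Q := by
        by_contra hne
        have hlt' : Q < P := lt_of_le_of_ne hP.1 (Ne.symm hne)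
        exact (Ideal.IsIntegral.comap_lt_comap (R := T) (I := Q) (J := P) hlt').ne (hQT.trans e.symm)
      exact hx0 (hQN x (hPQ ▸ hP.2))
    have hPm : P.comap iL = maximalIdeal T := by
      by_contra hne'
      refine hlt ?_
      haveI : (P.comap iL).IsPrime := Ideal.IsPrime.comap iL
      have hqP : q ≤ P.comap iL := hQT.ge.trans (Ideal.comap_mono hP.1)
      let a : PrimeSpectrum.zeroLocus (q : Set T) := ⟨⟨q, inferInstance⟩, le_refl q⟩
      let b : PrimeSpectrum.zeroLocus (q : Set T) := ⟨⟨P.comap iL, inferInstance⟩, hqP⟩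
      let c : PrimeSpectrum.zeroLocus (q : Set T) := ⟨closedPoint T, le_maximalIdeal hq.1.1.ne_top⟩
      have hab : a < b := lt_of_le_of_ne hqP fun e => hne (congrArg (fun w => w.1.asIdeal) e).symm
      have hbc : b < c := lt_of_le_of_ne (le_maximalIdeal (Ideal.IsPrime.ne_top inferInstance))
        fun e => hne' (congrArg (fun w => w.1.asIdeal) e)
      rw [ringKrullDim_quotient]
      exact le_iSup_of_le (((RelSeries.singleton _ c).cons b hbc).cons a (by simpa using hab)) le_rfl
    have hPmax : P.IsMaximal := Ideal.isMaximal_of_isIntegral_of_isMaximal_comap (R := T) P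
      (show (P.comap iL).IsMaximal by rw [hPm]; infer_instance)
    exact (hmax P hPmax).ge hy

end Groth.Agent.BrnchLib
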