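import Groth.Agent.FormCat.HenzNormal
import Groth.Agent.BrnchLib.Compl
import Groth.Agent.BrnchLib.ComplMin

/-! Minimal primes over a prime with geometrically integral formal fibre. -/

noncomputable section

namespace Groth.Agent.BrnchLib

universe u

open IsLocalRing TensorProduct

set_option linter.style.haveILetI false

/-- A minimal prime of a base change lies over each prime once when the fibre is a domain. -/
theorem eq_of_minimal_of_isDomain_fibre {S T S' : Type u} [CommRing S] [CommRing T] [CommRing S'] [Algebra S T]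
    [Algebra S S'] (Q : Ideal S') [Q.IsPrime] (hdom : IsDomain (T ⊗[S] Q.ResidueField))
    {P₁ P₂ : Ideal (T ⊗[S] S')} (h₁ : P₁ ∈ minimalPrimes (T ⊗[S] S')) (h₂ : P₂ ∈ minimalPrimes (T ⊗[S] S'))
    (e₁ : P₁.comap (Algebra.TensorProduct.includeRight : S' →ₐ[S] T ⊗[S] S').toRingHom = Q)
    (e₂ : P₂.comap (Algebra.TensorProduct.includeRight : S' →ₐ[S] T ⊗[S] S').toRingHom = Q) : P₁ = P₂ := by
  let π : T ⊗[S] S' →ₐ[S] T ⊗[S] Q.ResidueField :=
    Algebra.TensorProduct.map (AlgHom.id S T) (IsScalarTower.toAlgHom S S' Q.ResidueField)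
  haveI : (RingHom.ker π).IsPrime := RingHom.ker_isPrime _
  have key : ∀ P ∈ minimalPrimes (T ⊗[S] S'),
      P.comap (Algebra.TensorProduct.includeRight : S' →ₐ[S] T ⊗[S] S').toRingHom = Q → P = RingHom.ker π := by
    intro P hP hPQ
    haveI := hP.1.1
    let F := P.ResidueField
    let iR : S' →ₐ[S] F := (IsScalarTower.toAlgHom S (T ⊗[S] S') F).comp Algebra.TensorProduct.includeRight
    let iL : T →ₐ[S] F := (IsScalarTower.toAlgHom S (T ⊗[S] S') F).comp Algebra.TensorProduct.includeLeft
    have hker : ∀ s : S', iR s = 0 ↔ s ∈ Q := fun s => by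
      rw [← hPQ, Ideal.mem_comap]
      exact Ideal.algebraMap_residueField_eq_zero
    let d : S' ⧸ Q →+* F := Ideal.Quotient.lift Q iR.toRingHom fun a ha => (hker a).2 ha
    have hd : Function.Injective d := RingHom.lift_injective_of_ker_le_ideal Q _ fun a ha => (hker a).1 ha
    let e : Q.ResidueField →+* F := IsFractionRing.lift hd
    have he : ∀ s : S', e (algebraMap S' Q.ResidueField s) = iR s := fun s => by
      rw [IsScalarTower.algebraMap_apply S' (S' ⧸ Q) Q.ResidueField]
      exact IsFractionRing.lift_algebraMap hd _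
    let eA : Q.ResidueField →ₐ[S] F :=
      { e with
        commutes' := fun a => by
          change e (algebraMap S Q.ResidueField a) = algebraMap S F a
          rw [IsScalarTower.algebraMap_apply S S' Q.ResidueField, he, AlgHom.commutes] }
    let G : T ⊗[S] Q.ResidueField →ₐ[S] F := Algebra.TensorProduct.lift iL eA fun _ _ => Commute.all _ _
    have hG : G.comp π = IsScalarTower.toAlgHom S (T ⊗[S] S') F := Algebra.TensorProduct.ext'
      fun t s => by
        simp only [AlgHom.comp_apply, π, G, Algebra.TensorProduct.map_tmul, Algebra.TensorProduct.lift_tmul,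
          AlgHom.id_apply, IsScalarTower.coe_toAlgHom']
        change iL t * e (algebraMap S' Q.ResidueField s) = _
        rw [he]
        change algebraMap (T ⊗[S] S') F (t ⊗ₜ 1) * algebraMap (T ⊗[S] S') F (1 ⊗ₜ s) = _
        rw [← map_mul, Algebra.TensorProduct.tmul_mul_tmul, mul_one, one_mul]
    have hle : RingHom.ker π ≤ P := fun z hz => by
      refine Ideal.algebraMap_residueField_eq_zero.1 ?_
      have := AlgHom.congr_fun hG z
      rw [AlgHom.comp_apply, show π z = 0 from hz, map_zero] at this
      exact this.symm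
    exact le_antisymm (hP.2 ⟨inferInstance, bot_le⟩ hle) hle
  exact (key P₁ h₁ e₁).trans (key P₂ h₂ e₂).symm

/-- Formal fibres of henselian rings with geometrically normal formal fibres are geometrically integral. -/
theorem isDomain_tensor_field {S : Type u} [CommRing S] [IsNoetherianRing S] [HenselianLocalRing S]
    (hS : EGA4.HasGeomNormalFormalFibres S) (T : Type u) [CommRing T] [Algebra S T] (e : EGA4.Cpl S ≃ₐ[S] T)
    (S' : Type u) [CommRing S'] [Algebra S S'] (Q : Ideal S') [Q.IsPrime] :
    IsDomain (T ⊗[S] Q.ResidueField) := by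
  set q := Q.comap (algebraMap S S')
  letI : Algebra q.ResidueField Q.ResidueField := (Ideal.ResidueField.map q Q (algebraMap S S') rfl).toAlgebra
  haveI : IsScalarTower S q.ResidueField Q.ResidueField := IsScalarTower.of_algebraMap_eq fun a => by
    rw [RingHom.algebraMap_toAlgebra, Ideal.ResidueField.map_algebraMap, ← IsScalarTower.algebraMap_apply]
  haveI := FormCat.isDomain_tensor_of_finite q.ResidueField (EGA4.formalFibre S q)
    (fun L _ _ hL => by haveI := hL; exact FormCat.isDomain_formalFibre_finite S hS q L) Q.ResidueField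
  let f : T ⊗[S] Q.ResidueField ≃+* Q.ResidueField ⊗[q.ResidueField] EGA4.formalFibre S q :=
    (((Algebra.TensorProduct.congr e.symm (AlgEquiv.refl : Q.ResidueField ≃ₐ[S] Q.ResidueField)).toRingEquiv.trans
      (Algebra.TensorProduct.comm S (EGA4.Cpl S) Q.ResidueField).toRingEquiv).trans
      (Algebra.TensorProduct.cancelBaseChange S q.ResidueField Q.ResidueField Q.ResidueField (EGA4.Cpl S)).toRingEquiv.symm)
  exact MulEquiv.isDomain (A := T ⊗[S] Q.ResidueField) (B := Q.ResidueField ⊗[q.ResidueField] EGA4.formalFibre S q) { toEquiv := f.toEquiv, map_mul' := fun a b => map_mul f a b }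

/-- The completion of a henselization is that of the base, over the henselization. -/
def cplAlgEquiv (A : Type u) [CommRing A] [IsLocalRing A] [IsNoetherianRing A] (S : Type u) [CommRing S]
    [IsLocalRing S] [Algebra A S] [IsLocalHom (algebraMap A S)] [_root_.Hensel.IsHenselization A S]
    [Algebra S (AdicCompletion (maximalIdeal A) A)]
    (hψ : (algebraMap S (AdicCompletion (maximalIdeal A) A)).comp (algebraMap A S) = algebraMap A _) :
    EGA4.Cpl S ≃ₐ[S] AdicCompletion (maximalIdeal A) A :=
  AlgEquiv.ofRingEquiv (f := complEquiv A S) fun s => (RingHom.congr_fun (psi_eq A S _ hψ) s).symm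

end Groth.Agent.BrnchLib
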