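import Groth.Prelude.Def_CAlg2
import Mathlib.RingTheory.Localization.FractionRing

/-! For a reduced ring the normalization of the reduction is the normalization. -/

namespace Groth.Agent.BrnchLib

universe u

/-- For reduced `A`, `normRed A` is the integral closure of `A` in its total ring of fractions. -/
theorem exists_normRed_equiv (A : Type u) [CommRing A] [IsReduced A] :
    ∃ e : integralClosure A (FractionRing A) ≃+* CAlg2.normRed A,
      ∀ a : A, e (algebraMap A _ a) = algebraMap (CAlg2.red A) _ (Ideal.Quotient.mk (nilradical A) a) := by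
  let e₀ : A ≃+* CAlg2.red A := RingEquiv.ofBijective (Ideal.Quotient.mk (nilradical A))
    ⟨by
      rw [injective_iff_map_eq_zero]
      intro x hx
      rwa [Ideal.Quotient.eq_zero_iff_mem, nilradical_eq_zero, Ideal.zero_eq_bot, Ideal.mem_bot] at hx,
      Ideal.Quotient.mk_surjective⟩
  let eK : FractionRing A ≃+* FractionRing (CAlg2.red A) := IsFractionRing.ringEquivOfRingEquiv e₀
  have heK : ∀ x : A, eK (algebraMap A _ x) = algebraMap (CAlg2.red A) _ (e₀ x) := fun x =>
    IsFractionRing.ringEquivOfRingEquiv_algebraMap e₀ x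
  have hint : ∀ z, IsIntegral A z ↔ IsIntegral (CAlg2.red A) (eK z) := fun z => by
    constructor
    · rintro ⟨p, hp, hpz⟩
      refine ⟨p.map e₀.toRingHom, hp.map _, ?_⟩
      rw [Polynomial.eval₂_map, show (algebraMap (CAlg2.red A) (FractionRing (CAlg2.red A))).comp e₀.toRingHom =
        eK.toRingHom.comp (algebraMap A (FractionRing A)) from RingHom.ext fun x => (heK x).symm]
      exact (Polynomial.hom_eval₂ p _ eK.toRingHom z).symm.trans (by rw [hpz, map_zero])
    · rintro ⟨p, hp, hpz⟩
      refine ⟨p.map e₀.symm.toRingHom, hp.map _, eK.injective ?_⟩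
      rw [map_zero, Polynomial.eval₂_map]
      refine (Polynomial.hom_eval₂ p _ eK.toRingHom z).trans ?_
      rw [← RingHom.comp_assoc, show (eK.toRingHom.comp (algebraMap A (FractionRing A))).comp e₀.symm.toRingHom =
        algebraMap (CAlg2.red A) (FractionRing (CAlg2.red A)) from RingHom.ext fun x => by
          show eK (algebraMap A (FractionRing A) (e₀.symm x)) = _
          rw [heK, e₀.apply_symm_apply]]
      exact hpz
  let j : integralClosure A (FractionRing A) →+* CAlg2.normRed A :=
    (eK.toRingHom.comp (integralClosure A (FractionRing A)).val.toRingHom).codRestrict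
      (integralClosure (CAlg2.red A) (FractionRing (CAlg2.red A))) fun z => (hint z).1 z.2
  have hj : Function.Bijective j := ⟨fun a b h => Subtype.ext (eK.injective (congrArg Subtype.val h)), fun w =>
    ⟨⟨eK.symm w, (hint _).2 (by rw [eK.apply_symm_apply]; exact w.2)⟩, Subtype.ext (eK.apply_symm_apply _)⟩⟩
  exact ⟨RingEquiv.ofBijective j hj, fun a => Subtype.ext (heK a)⟩

end Groth.Agent.BrnchLib
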