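import Groth.Agent.BrnchLib.DimOne
import Groth.Agent.IsoNatLib.SmoothCrit
import Groth.Agent.ParaDef.Descend
import Groth.Agent.Synt29.FlatFS
import Mathlib.RingTheory.Ideal.AssociatedPrime.Finiteness

/-! Disconnections of punctured spectra descend along completions of henselian local rings. -/

noncomputable section

namespace Groth.Agent.BrnchLib

universe u

open IsLocalRing Polynomial

set_option linter.style.haveILetI false

/-- A decomposition of the punctured spectrum of a local ring. -/
def IsDecomp {R : Type u} [CommRing R] [IsLocalRing R] (I J : Ideal R) : Prop :=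
  I * J ≤ nilradical R ∧ maximalIdeal R ≤ (I ⊔ J).radical ∧
    ¬ maximalIdeal R ≤ I.radical ∧ ¬ maximalIdeal R ≤ J.radical

/-- The colon by finitely many elements commutes with flat extension. -/
theorem exists_colon_map {S T : Type u} [CommRing S] [CommRing T] [Algebra S T] [IsNoetherianRing S]
    [Module.Flat S T] (I : Ideal S) (G : Finset S) (u : T)
    (hu : ∀ g ∈ G, algebraMap S T g * u ∈ I.map (algebraMap S T)) :
    u ∈ (⨅ g ∈ G, Submodule.colon I {g}).map (algebraMap S T) := by
  classical
  induction G using Finset.induction_on with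
  | empty => simp [Ideal.map_top]
  | @insert a G _ ih =>
    refine ParaDef.colon_map T (⨅ g ∈ G, Submodule.colon I {g}) I _ a (fun x hx hax => ?_) u
      (ih fun g hg => hu g (Finset.mem_insert_of_mem hg)) (hu a (Finset.mem_insert_self a G))
    simp only [Submodule.mem_iInf] at hx ⊢
    intro g hg
    rcases Finset.mem_insert.1 hg with rfl | hg
    · exact Submodule.mem_colon_singleton.2 (by rw [smul_eq_mul, mul_comm]; exact hax)
    · exact hx g hg

variable {S T : Type u} [CommRing S] [HenselianLocalRing S] [IsNoetherianRing S] [CommRing T]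
  [IsLocalRing T] [Algebra S T]

theorem exists_decomp_of_regular (hff : Module.FaithfullyFlat S T)
    (hm : (maximalIdeal S).map (algebraMap S T) = maximalIdeal T)
    (hres : ∀ t : T, ∃ s : S, t - algebraMap S T s ∈ maximalIdeal T)
    (I J : Ideal T) (hIJ : I * J = ⊥) (k : ℕ) (hsum : maximalIdeal T ^ k ≤ I ⊔ J)
    (y : S) (hy : y ∈ maximalIdeal S ^ k) (hyr : y ∈ nonZeroDivisors S) (hym : y ∈ maximalIdeal S)
    (hI : I ≠ ⊥) (hJ : J ≠ ⊥) : ∃ I₀ J₀ : Ideal S, IsDecomp I₀ J₀ := by
  classical
  haveI := hff
  set f := algebraMap S T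
  have hk : (maximalIdeal S ^ k).map f = maximalIdeal T ^ k := by rw [Ideal.map_pow, hm]
  have hyT : ∀ x : T, f y * x = 0 → x = 0 := by
    have hr : IsSMulRegular S y := isSMulRegular_iff_right_eq_zero_of_smul.2 fun x hx => by
      exact (mem_nonZeroDivisors_iff.1 hyr).1 x hx
    intro x hx
    exact (hr.of_flat (S := T)).right_eq_zero_of_smul (by rw [smul_eq_mul]; exact hx)
  have hyS : ∀ x : S, y * x = 0 → x = 0 := fun x hx => (mem_nonZeroDivisors_iff.1 hyr).1 x hx
  obtain ⟨u, hu, v, hv, huv⟩ := Submodule.mem_sup.1 (hsum (hk ▸ Ideal.mem_map_of_mem f hy))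
  have h0 : ∀ i ∈ I, ∀ j ∈ J, i * j = 0 := fun i hi j hj =>
    (Ideal.mem_bot).1 (hIJ ▸ Ideal.mul_mem_mul hi hj)
  have hu0 : u ≠ 0 := by
    intro e
    rw [e, zero_add] at huv
    exact hI (eq_bot_iff.2 fun i hi => (Ideal.mem_bot).2 (hyT i (by rw [mul_comm, ← huv]; exact h0 i hi v hv)))
  have hv0 : v ≠ 0 := by
    intro e
    rw [e, add_zero] at huv
    exact hJ (eq_bot_iff.2 fun j hj => (Ideal.mem_bot).2 (hyT j (by rw [← huv]; exact h0 u hu j hj)))
  have huu : u * u = f y * u := by rw [← huv, add_mul, mul_comm v, h0 u hu v hv, add_zero]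
  -- The section is not regular at the closed point.
  have hnot : ∀ e : T, u ≠ f y * e := by
    intro e he
    have hee : IsIdempotentElem e := by
      refine sub_eq_zero.1 (hyT _ (hyT _ ?_))
      rw [he] at huu
      linear_combination huu
    rcases IsLocalRing.isUnit_or_isUnit_one_sub_self e with h | h
    · have : e = 1 := h.mul_left_cancel (hee.eq.trans (mul_one e).symm)
      rw [this, mul_one] at he
      exact hv0 (by rw [← huv] at he; exact add_left_cancel (he.symm.trans (add_zero u).symm))
    · have : e = 0 := by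
        have h2 : (1 - e) * e = 0 := by rw [sub_mul, one_mul, hee.eq, sub_self]
        exact h.mul_right_eq_zero.1 h2
      rw [this, mul_zero] at he
      exact hu0 he
  obtain ⟨G, hG⟩ := IsNoetherian.noetherian (maximalIdeal S ^ k)
  have hGu : ∀ g ∈ maximalIdeal S ^ k, f g * u ∈ (Ideal.span {y}).map f := fun g hg => by
    obtain ⟨i, hi, j, hj, hij⟩ := Submodule.mem_sup.1 (hsum (hk ▸ Ideal.mem_map_of_mem f hg))
    have : f g * u = f y * i := by
      rw [← hij, ← huv, add_mul, add_mul, mul_comm j, h0 u hu j hj, mul_comm v, h0 i hi v hv]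
      ring
    rw [this]
    exact Ideal.mul_mem_right _ _ (Ideal.mem_map_of_mem f (Ideal.mem_span_singleton_self y))
  have huY := exists_colon_map (T := T) (Ideal.span {y}) G u fun g hg =>
    hGu g (hG ▸ Submodule.subset_span hg)
  -- Descend `u` modulo `y`.
  obtain ⟨a, t, hat⟩ : ∃ (a : S) (t : T), u = f a + f y * t := by
    have key : ∀ x ∈ (⨅ g ∈ G, Submodule.colon (Ideal.span {y}) {g}).map f,
        ∃ (a : S) (t : T), x = f a + f y * t := by
      intro x hx
      induction hx using Submodule.span_induction with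
      | mem z hz =>
        obtain ⟨b, -, rfl⟩ := hz
        exact ⟨b, 0, by simp⟩
      | zero => exact ⟨0, 0, by simp⟩
      | add p q _ _ hp hq =>
        obtain ⟨a, t, rfl⟩ := hp
        obtain ⟨b, s, rfl⟩ := hq
        exact ⟨a + b, t + s, by rw [map_add]; ring⟩
      | smul c p hp' hp =>
        obtain ⟨a, t, rfl⟩ := hp
        obtain ⟨r, hr⟩ := exists_sub_mem_pow hm hres k c
        have hmul : ∀ q ∈ maximalIdeal T ^ k, q * (f a + f y * t) ∈ (Ideal.span {y}).map f := by
          intro q hq
          rw [← hk] at hq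
          induction hq using Submodule.span_induction with
          | mem z hz =>
            obtain ⟨g, hg, rfl⟩ := hz
            have hle : (⨅ g ∈ G, Submodule.colon (Ideal.span {y}) {g}).map f ≤
                Submodule.colon ((Ideal.span {y}).map f) {f g} := by
              rw [Ideal.map_le_iff_le_comap]
              intro b hb
              simp only [Submodule.mem_iInf] at hb
              rw [Ideal.mem_comap, Submodule.mem_colon_singleton, smul_eq_mul, ← map_mul]
              refine Ideal.mem_map_of_mem f ?_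
              have : maximalIdeal S ^ k ≤ Submodule.colon (Ideal.span {y}) {b} := by
                rw [← hG, Submodule.span_le]
                intro g' hg'
                have := Submodule.mem_colon_singleton.1 (hb g' hg')
                exact Submodule.mem_colon_singleton.2 (by rwa [smul_eq_mul, mul_comm, ← smul_eq_mul])
              have := Submodule.mem_colon_singleton.1 (this hg)
              rwa [smul_eq_mul, mul_comm] at this
            have := Submodule.mem_colon_singleton.1 (hle hp')
            rwa [smul_eq_mul, mul_comm] at this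
          | zero => simp
          | add p q _ _ hp hq => rw [add_mul]; exact add_mem hp hq
          | smul c p _ hp => rw [smul_eq_mul, mul_assoc]; exact Ideal.mul_mem_left _ _ hp
        obtain ⟨w, hw⟩ : ∃ w, (c - f r) * (f a + f y * t) = f y * w := by
          have := hmul _ hr
          rw [Ideal.map_span, Set.image_singleton, Ideal.mem_span_singleton] at this
          exact this
        refine ⟨r * a, f r * t + w, ?_⟩
        rw [smul_eq_mul, map_mul]
        linear_combination hw
    exact key u huY
  have hga : ∀ g ∈ maximalIdeal S ^ k, ∃ d, g * a = y * d := fun g hg => by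
    refine Ideal.mem_span_singleton.1 ?_
    rw [← Ideal.comap_map_eq_self_of_faithfullyFlat (B := T) (Ideal.span {y}), Ideal.mem_comap]
    have : f (g * a) = f g * u - f g * (f y * t) := by rw [hat, map_mul]; ring
    change f (g * a) ∈ _
    rw [this]
    exact sub_mem (hGu g hg) (Ideal.mul_mem_left _ _
      (Ideal.mul_mem_right _ _ (Ideal.mem_map_of_mem f (Ideal.mem_span_singleton_self y))))
  -- A monic equation for `a / y`.
  obtain ⟨c₁, c₂, hc⟩ : ∃ c₁ c₂ : S, a * a = c₁ * (a * y) + c₂ * (y * y) := by
    have : a * a ∈ Ideal.span {a * y, y * y} := by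
      rw [← Ideal.comap_map_eq_self_of_faithfullyFlat (B := T) (Ideal.span {a * y, y * y}),
        Ideal.mem_comap, Ideal.map_span, Set.image_pair]
      refine Ideal.mem_span_pair.2 ⟨1 - 2 * t, t - t ^ 2, ?_⟩
      rw [hat] at huu
      change _ = f (a * a)
      simp only [map_mul]
      linear_combination -huu
    obtain ⟨c₁, c₂, hc⟩ := Ideal.mem_span_pair.1 this
    exact ⟨c₁, c₂, hc.symm⟩
  have hrel : f a * (f c₁ + 2 * t - 1) + f y * (f c₂ + t ^ 2 - t) = 0 := by
    apply hyT
    have hc' := congrArg f hc
    simp only [map_mul, map_add] at hc'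
    rw [hat] at huu
    linear_combination huu - hc'
  have h1 : f c₁ + 2 * t - 1 ∈ maximalIdeal T := fun hun => by
    obtain ⟨w, hw⟩ := hun.exists_left_inv
    refine hnot (t - w * (f c₂ + t ^ 2 - t)) ?_
    rw [hat]
    linear_combination w * hrel - f a * hw
  have h2 : f c₂ + t ^ 2 - t ∈ maximalIdeal T := fun hun => by
    obtain ⟨w, hw⟩ := hun.exists_left_inv
    set w' := w * (f c₁ + 2 * t - 1) with hw'
    have hy' : f y = -(f a * w') := by linear_combination w * hrel - f y * hw
    have hun' : IsUnit (1 - t * w') :=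
      isUnit_one_sub_self_of_mem_nonunits _ (Ideal.mul_mem_left _ _ (Ideal.mul_mem_left _ w h1))
    have hu' : f y * (1 - t * w') = -(u * w') := by rw [hat]; linear_combination hy'
    obtain ⟨z, hz⟩ := hun'.exists_right_inv
    have hv' : v = u * (-(w' * z) - 1) := by linear_combination huv + z * hu' - f y * hz
    have : u * (u * (-(w' * z) - 1)) = 0 := by rw [← hv']; exact h0 u hu v hv
    have hun2 : IsUnit (-(w' * z) - 1) := by
      rw [show -(w' * z) - 1 = -(1 - -(w' * z)) by ring]
      exact (isUnit_one_sub_self_of_mem_nonunits _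
        (neg_mem (Ideal.mul_mem_right _ _ (Ideal.mul_mem_left _ w h1)) : -(w' * z) ∈ maximalIdeal T)).neg
    have hu2 : f y * u = 0 := by
      rw [← huu]
      exact hun2.mul_left_eq_zero.1 (by rw [mul_assoc]; exact this)
    exact hu0 (hyT u hu2)
  obtain ⟨s, hs⟩ := hres t
  have hlm : ∀ x : S, f x ∈ maximalIdeal T → x ∈ maximalIdeal S := fun x hx hu => hx (hu.map f)
  have hmon : (X ^ 2 - C c₁ * X - C c₂ : S[X]).Monic := by monicity!
  obtain ⟨r, hr, hrs⟩ := HenselianLocalRing.is_henselian _ hmon (-s) (hlm _ (by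
      simp only [eval_sub, eval_pow, eval_X, eval_mul, eval_C, map_sub, map_mul, map_pow, map_neg]
      have : (-f s) ^ 2 - f c₁ * -f s - f c₂ =
          f s * (f c₁ + 2 * t - 1) - (f c₂ + t ^ 2 - t) + (t - f s) * (t - f s) - (t - f s) := by ring
      rw [this]
      exact sub_mem (add_mem (sub_mem (Ideal.mul_mem_left _ _ h1) h2) (Ideal.mul_mem_left _ _ hs)) hs))
    (by
      simp only [derivative_sub, derivative_X_pow, derivative_C_mul, derivative_X, derivative_C, eval_sub,
        eval_mul, eval_C, eval_pow, eval_X, mul_one, sub_zero, eval_one, Nat.cast_ofNat, Nat.add_one_sub_one, pow_one]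
      by_contra hn
      have h3 : f (2 * -s - c₁) ∈ maximalIdeal T := hm ▸ Ideal.mem_map_of_mem f hn
      refine (maximalIdeal T).one_notMem ?_
      have : (1 : T) = -(f (2 * -s - c₁)) - (f c₁ + 2 * t - 1) + 2 * (t - f s) := by
        rw [map_sub, map_mul, map_neg, map_ofNat]; ring
      rw [this]
      exact add_mem (sub_mem (neg_mem h3) h1) (Ideal.mul_mem_left _ _ hs))
  have hr' : r ^ 2 - c₁ * r - c₂ = 0 := by simpa using hr
  set r' := c₁ - r with hr'def
  have hδ : IsUnit (r' - r) := by
    by_contra hn
    have h3 : f (r' - r) ∈ maximalIdeal T := hm ▸ Ideal.mem_map_of_mem f hn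
    have h4 : f (r - -s) ∈ maximalIdeal T := hm ▸ Ideal.mem_map_of_mem f hrs
    refine (maximalIdeal T).one_notMem ?_
    have : (1 : T) = f (r' - r) - (f c₁ + 2 * t - 1) + 2 * (t - f s) + 2 * f (r - -s) := by
      simp only [hr'def, map_sub, map_neg]; ring
    rw [this]
    exact add_mem (add_mem (sub_mem h3 h1) (Ideal.mul_mem_left _ _ hs)) (Ideal.mul_mem_left _ _ h4)
  set w₁ := a - y * r with hw1
  set w₂ := a - y * r' with hw2
  have hw : w₁ * w₂ = 0 := by
    rw [hw1, hw2, hr'def]; linear_combination hc - y ^ 2 * hr'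
  obtain ⟨δ, hδ'⟩ := hδ.exists_left_inv
  let I₀ : Ideal S := Submodule.colon (⊥ : Ideal S) {w₁}
  let J₀ : Ideal S := Submodule.colon (⊥ : Ideal S) {w₂}
  have hI₀ : ∀ x, x ∈ I₀ ↔ x * w₁ = 0 := fun x => by
    rw [Submodule.mem_colon_singleton, Submodule.mem_bot, smul_eq_mul]
  have hJ₀ : ∀ x, x ∈ J₀ ↔ x * w₂ = 0 := fun x => by
    rw [Submodule.mem_colon_singleton, Submodule.mem_bot, smul_eq_mul]
  refine ⟨I₀, J₀, ?_, ?_, ?_, ?_⟩
  · refine le_trans (le_of_eq ?_) bot_le
    rw [eq_bot_iff, Ideal.mul_le]
    intro i hi j hj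
    refine (Ideal.mem_bot).2 (hyS _ ?_)
    have h12 : w₁ - w₂ = y * (r' - r) := by rw [hw1, hw2]; ring
    linear_combination δ * j * ((hI₀ i).1 hi) - δ * i * ((hJ₀ j).1 hj) - i * j * y * hδ' - δ * i * j * h12
  · refine fun x hx => ⟨k, ?_⟩
    obtain ⟨d, hd⟩ := hga _ (Ideal.pow_mem_pow hx k)
    set g := x ^ k
    set j := δ * (d - g * r) with hj
    refine Submodule.mem_sup.2 ⟨g - j, ?_, j, ?_, sub_add_cancel g j⟩
    · rw [hI₀]
      refine hyS _ ?_
      rw [hj, hw1, hw2] at *
      linear_combination δ * (a - y * r) * hd - δ * g * hw - g * y * (a - y * r) * hδ'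
    · rw [hJ₀]
      refine hyS _ ?_
      rw [hj, hw1, hw2] at *
      linear_combination δ * g * hw - δ * (a - y * r') * hd
  · intro hle
    obtain ⟨n, hn⟩ := hle hym
    rw [hI₀] at hn
    have : w₁ = 0 := by
      clear_value w₁
      induction n with
      | zero => simpa using hn
      | succ n ih => exact ih (hyS _ (by rw [← mul_assoc, ← pow_succ']; exact hn))
    refine hnot (f r + t) ?_
    rw [hat, show a = y * r from sub_eq_zero.1 this, map_mul, mul_add]
  · intro hle
    obtain ⟨n, hn⟩ := hle hym
    rw [hJ₀] at hn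
    have : w₂ = 0 := by
      clear_value w₂
      induction n with
      | zero => simpa using hn
      | succ n ih => exact ih (hyS _ (by rw [← mul_assoc, ← pow_succ']; exact hn))
    refine hnot (f r' + t) ?_
    rw [hat, show a = y * r' from sub_eq_zero.1 this, map_mul, mul_add]

end Groth.Agent.BrnchLib
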