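import Groth.Agent.BrnchLib.Punctured
import Mathlib.RingTheory.Noetherian.Basic

/-! Decompositions of punctured spectra descend to henselian local rings: the general case. -/

noncomputable section

namespace Groth.Agent.BrnchLib

universe u

open IsLocalRing

set_option linter.style.haveILetI false

theorem exists_mem_nonZeroDivisors {R : Type u} [CommRing R] [IsLocalRing R] [IsNoetherianRing R]
    (h : ∀ x : R, (∀ m ∈ maximalIdeal R, m * x = 0) → x = 0) :
    ∃ y ∈ maximalIdeal R, y ∈ nonZeroDivisors R := by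
  by_contra hne
  push Not at hne
  have hfin := associatedPrimes.finite R R
  have hsub : (maximalIdeal R : Set R) ⊆ ⋃ p ∈ associatedPrimes R R, (p : Set R) := fun y hy => by
    rw [biUnion_associatedPrimes_eq_compl_nonZeroDivisors]
    exact hne y hy
  obtain ⟨p, hp, hle⟩ := (Ideal.subset_union_prime_finite hfin ⊥ ⊥ fun p hp _ _ => hp.isPrime).1 hsub
  rw [← (maximalIdeal.isMaximal R).eq_of_le hp.isPrime.ne_top hle] at hp
  obtain ⟨x, hx⟩ := hp.2
  obtain ⟨n, hn⟩ := Ideal.exists_pow_le_of_le_radical_of_fg hx.le (IsNoetherian.noetherian _)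
  have key : ∀ n, ∀ x : R, (∀ q ∈ maximalIdeal R ^ n, q * x = 0) → x = 0 := by
    intro n
    induction n with
    | zero => exact fun x hx => by simpa using hx 1 (by simp)
    | succ n ih =>
      intro x hx
      refine ih x fun q hq => h _ fun m hm => ?_
      rw [← mul_assoc]
      exact hx _ (by rw [pow_succ']; exact Ideal.mul_mem_mul hm hq)
  have hx0 : x = 0 := key n x fun q hq => by
    simpa [Submodule.mem_colon_singleton] using hn hq
  exact (maximalIdeal.isMaximal R).ne_top (by rw [hx]; simp [hx0])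

theorem exists_decomp (S T : Type u) [CommRing S] [HenselianLocalRing S] [IsNoetherianRing S]
    [CommRing T] [IsLocalRing T] [IsNoetherianRing T] [Algebra S T] (hff : Module.FaithfullyFlat S T)
    (hm : (maximalIdeal S).map (algebraMap S T) = maximalIdeal T)
    (hres : ∀ t : T, ∃ s : S, t - algebraMap S T s ∈ maximalIdeal T)
    (I J : Ideal T) (h : IsDecomp I J) : ∃ I₀ J₀ : Ideal S, IsDecomp I₀ J₀ := by
  haveI := hff
  set f := algebraMap S T
  obtain ⟨hIJ, hsum, hI, hJ⟩ := h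
  -- the torsion supported at the closed point
  let G : ℕ →o Ideal S := ⟨fun n => Submodule.colon (⊥ : Ideal S) ((maximalIdeal S ^ n : Ideal S) : Set S),
    fun m n hmn x hx => Submodule.mem_colon.2 fun p hp => Submodule.mem_colon.1 hx p (Ideal.pow_le_pow_right hmn hp)⟩
  obtain ⟨N, hN⟩ := monotone_stabilizes_iff_noetherian.2 inferInstance G
  set Γ := G N with hΓ
  have hΓm : ∀ x ∈ Γ, ∀ p ∈ maximalIdeal S ^ N, x * p = 0 := fun x hx p hp =>
    (Submodule.mem_bot _).1 (Submodule.mem_colon.1 hx p hp)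
  have hΓT : maximalIdeal T ^ N * Γ.map f = ⊥ := by
    rw [← hm, ← Ideal.map_pow, ← Ideal.map_mul, show maximalIdeal S ^ N * Γ = ⊥ from ?_, Ideal.map_bot]
    rw [eq_bot_iff, Ideal.mul_le]
    exact fun p hp x hx => (Ideal.mem_bot).2 (by rw [mul_comm]; exact hΓm x hx p hp)
  have hΓtop : Γ ≠ ⊤ := fun e => hI (fun x hx => by
    refine ⟨N, ?_⟩
    have : maximalIdeal T ^ N = ⊥ := by rwa [e, Ideal.map_top, Ideal.mul_top] at hΓT
    rw [show x ^ N = 0 from (Ideal.mem_bot).1 (this ▸ Ideal.pow_mem_pow hx N)]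
    exact zero_mem _)
  have hΓTtop : Γ.map f ≠ ⊤ := fun e =>
    hΓtop (by rw [← Ideal.comap_map_eq_self_of_faithfullyFlat (B := T) Γ, show Γ.map (algebraMap S T) = ⊤ from e, Ideal.comap_top])
  have hΓnil : Γ.map f ≤ nilradical T := fun x hx => by
    rw [mem_nilradical, nilpotent_iff_mem_prime]
    intro P hP
    by_cases hPm : maximalIdeal T ≤ P
    · exact hPm (le_maximalIdeal hΓTtop hx)
    · have : maximalIdeal T ^ N * Γ.map f ≤ P := by rw [hΓT]; exact bot_le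
      exact (hP.mul_le.1 this).resolve_left (fun hle => hPm (hP.le_of_pow_le hle)) hx
  haveI : Nontrivial (S ⧸ Γ) := Ideal.Quotient.nontrivial_iff.2 hΓtop
  haveI : Nontrivial (T ⧸ Γ.map f) := Ideal.Quotient.nontrivial_iff.2 hΓTtop
  haveI hH : HenselianLocalRing (S ⧸ Γ) := IsoNatLib.henselianLocalRing_quotient Γ hΓtop
  haveI : IsLocalRing (T ⧸ Γ.map f) := IsLocalRing.of_surjective' _ Ideal.Quotient.mk_surjective
  letI : Algebra (S ⧸ Γ) (T ⧸ Γ.map f) :=
    (Ideal.quotientMap (Γ.map f) f Ideal.le_comap_map).toAlgebra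
  haveI : Module.Flat (S ⧸ Γ) (T ⧸ Γ.map f) :=
    RingHom.flat_algebraMap_iff.1 (Synt29.FlatFS.flat_quotientMap Γ)
  have hmS : maximalIdeal (S ⧸ Γ) = (maximalIdeal S).map (Ideal.Quotient.mk Γ) :=
    (map_maximalIdeal_of_surjective _ Ideal.Quotient.mk_surjective).symm
  have hmT : maximalIdeal (T ⧸ Γ.map f) = (maximalIdeal T).map (Ideal.Quotient.mk (Γ.map f)) :=
    (map_maximalIdeal_of_surjective _ Ideal.Quotient.mk_surjective).symm
  have hcomp : (algebraMap (S ⧸ Γ) (T ⧸ Γ.map f)).comp (Ideal.Quotient.mk Γ) =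
      (Ideal.Quotient.mk (Γ.map f)).comp f := RingHom.ext fun x => rfl
  have hm' : (maximalIdeal (S ⧸ Γ)).map (algebraMap (S ⧸ Γ) (T ⧸ Γ.map f)) = maximalIdeal (T ⧸ Γ.map f) := by
    rw [hmS, hmT, Ideal.map_map, hcomp, ← Ideal.map_map, hm]
  haveI : IsLocalHom (algebraMap (S ⧸ Γ) (T ⧸ Γ.map f)) := ⟨fun x hx => by
    by_contra hn
    exact (Ideal.map_le_iff_le_comap.1 hm'.le hn) hx⟩
  have hff' : Module.FaithfullyFlat (S ⧸ Γ) (T ⧸ Γ.map f) := Module.FaithfullyFlat.of_flat_of_isLocalHom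
  have hres' : ∀ t : T ⧸ Γ.map f, ∃ s, t - algebraMap (S ⧸ Γ) (T ⧸ Γ.map f) s ∈ maximalIdeal (T ⧸ Γ.map f) := by
    intro t
    obtain ⟨t, rfl⟩ := Ideal.Quotient.mk_surjective t
    obtain ⟨s, hs⟩ := hres t
    refine ⟨Ideal.Quotient.mk Γ s, ?_⟩
    rw [hmT, show algebraMap (S ⧸ Γ) (T ⧸ Γ.map f) (Ideal.Quotient.mk Γ s) = Ideal.Quotient.mk (Γ.map f) (f s) from rfl, ← map_sub]
    exact Ideal.mem_map_of_mem _ hs
  -- a regular element
  obtain ⟨y, hy, hyr⟩ := exists_mem_nonZeroDivisors (R := S ⧸ Γ) fun x hx => by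
    obtain ⟨x, rfl⟩ := Ideal.Quotient.mk_surjective x
    rw [Ideal.Quotient.eq_zero_iff_mem]
    show x ∈ G N
    refine (hN (N + 1) (Nat.le_succ N)).ge ?_
    refine Submodule.mem_colon.2 fun p hp => (Submodule.mem_bot _).2 ?_
    rw [SetLike.mem_coe, pow_succ'] at hp
    refine Submodule.mul_induction_on hp (fun m hm' p hp => ?_) fun a b ha hb => by
      rw [smul_eq_mul] at ha hb ⊢; rw [mul_add, ha, hb, add_zero]
    have : Ideal.Quotient.mk Γ m * Ideal.Quotient.mk Γ x = 0 := hx _ (hmS ▸ Ideal.mem_map_of_mem _ hm')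
    rw [← map_mul, Ideal.Quotient.eq_zero_iff_mem] at this
    rw [smul_eq_mul, ← mul_assoc, mul_comm x]
    exact hΓm _ this p hp
  -- products of powers vanish
  obtain ⟨M, hM⟩ := IsNoetherianRing.isNilpotent_nilradical T
  set π := Ideal.Quotient.mk (Γ.map f)
  have hIJ' : (I ^ (M + 1)).map π * (J ^ (M + 1)).map π = ⊥ := by
    rw [← Ideal.map_mul, ← mul_pow, pow_succ, show (I * J) ^ M * (I * J) = ⊥ from ?_, Ideal.map_bot]
    rw [eq_bot_iff]
    exact Ideal.mul_le_left.trans ((Ideal.pow_right_mono hIJ M).trans (le_of_eq hM))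
  obtain ⟨k, hk⟩ : ∃ k, maximalIdeal T ^ k ≤ I ^ (M + 1) ⊔ J ^ (M + 1) := by
    refine Ideal.exists_pow_le_of_le_radical_of_fg ?_ (IsNoetherian.noetherian _)
    refine hsum.trans ?_
    rw [Ideal.radical_le_radical_iff]
    exact sup_le (fun x hx => ⟨M + 1, Ideal.mem_sup_left (Ideal.pow_mem_pow hx _)⟩)
      (fun x hx => ⟨M + 1, Ideal.mem_sup_right (Ideal.pow_mem_pow hx _)⟩)
  have hsum' : maximalIdeal (T ⧸ Γ.map f) ^ (k + 1) ≤ (I ^ (M + 1)).map π ⊔ (J ^ (M + 1)).map π := by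
    rw [hmT, ← Ideal.map_pow, ← Ideal.map_sup]
    exact Ideal.map_mono ((Ideal.pow_le_pow_right (Nat.le_succ k)).trans hk)
  have hne : ∀ A B : Ideal T, maximalIdeal T ≤ (A ⊔ B).radical → ¬ maximalIdeal T ≤ B.radical →
      (A ^ (M + 1)).map π ≠ ⊥ := fun A B hAB hB e => hB (hAB.trans (by
    rw [Ideal.radical_le_radical_iff, sup_le_iff]
    refine ⟨fun x hx => ?_, Ideal.le_radical⟩
    have : x ^ (M + 1) ∈ Γ.map f := Ideal.Quotient.eq_zero_iff_mem.1
      ((Ideal.mem_bot).1 (e ▸ Ideal.mem_map_of_mem π (Ideal.pow_mem_pow hx _)))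
    obtain ⟨n, hn⟩ := mem_nilradical.1 (hΓnil this)
    exact ⟨(M + 1) * n, by rw [pow_mul, hn]; exact zero_mem _⟩))
  have hyk : y ^ (k + 1) ∈ maximalIdeal (S ⧸ Γ) ^ (k + 1) := Ideal.pow_mem_pow hy _
  obtain ⟨I₀, J₀, h0, h1, h2, h3⟩ := exists_decomp_of_regular hff' hm' hres' _ _ hIJ' (k + 1) hsum'
    (y ^ (k + 1)) hyk (pow_mem hyr _) (Ideal.pow_mem_of_mem _ hy _ (Nat.succ_pos k))
    (hne I J hsum hJ) (hne J I (by rwa [sup_comm]) hI)
  refine ⟨I₀.comap (Ideal.Quotient.mk Γ), J₀.comap (Ideal.Quotient.mk Γ), ?_, ?_, ?_, ?_⟩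
  · intro x hx
    have hx' : Ideal.Quotient.mk Γ x ∈ nilradical (S ⧸ Γ) := h0 (Ideal.le_comap_mul _ hx)
    obtain ⟨n, hn⟩ := mem_nilradical.1 hx'
    rw [← map_pow, Ideal.Quotient.eq_zero_iff_mem] at hn
    obtain ⟨n', hn'⟩ := mem_nilradical.1 (hΓnil (Ideal.mem_map_of_mem f hn))
    rw [← map_pow, ← map_zero f] at hn'
    exact mem_nilradical.2 ⟨n * n', by rw [pow_mul]; exact FaithfulSMul.algebraMap_injective S T hn'⟩
  · intro x hx
    obtain ⟨n, hn⟩ := h1 (hmS ▸ Ideal.mem_map_of_mem _ hx)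
    obtain ⟨a, ha, b, hb, hab⟩ := Submodule.mem_sup.1 hn
    obtain ⟨a, rfl⟩ := Ideal.Quotient.mk_surjective a
    obtain ⟨b, rfl⟩ := Ideal.Quotient.mk_surjective b
    rw [← map_add, ← map_pow, Ideal.Quotient.eq] at hab
    refine ⟨n, ?_⟩
    rw [show x ^ n = (a - (a + b - x ^ n)) + b by ring]
    refine Submodule.add_mem_sup ?_ hb
    rw [Ideal.mem_comap, map_sub, Ideal.Quotient.eq_zero_iff_mem.2 hab, sub_zero]
    exact ha
  all_goals
    intro hle
  · refine h2 ?_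
    rw [hmS, Ideal.map_le_iff_le_comap, Ideal.comap_radical]
    exact hle
  · refine h3 ?_
    rw [hmS, Ideal.map_le_iff_le_comap, Ideal.comap_radical]
    exact hle

end Groth.Agent.BrnchLib
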