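import Groth.Agent.BrnchLib.PuncturedDecomp
import Mathlib.RingTheory.Spectrum.Prime.Topology

/-! Preconnected punctured spectra in terms of ideals. -/

noncomputable section

namespace Groth.Agent.BrnchLib

universe u

open IsLocalRing

set_option linter.style.haveILetI false

variable {R : Type u} [CommRing R] [IsLocalRing R]

theorem mem_punctured_iff (P : PrimeSpectrum R) :
    P ∈ ({closedPoint R}ᶜ : Set (PrimeSpectrum R)) ↔ ¬ maximalIdeal R ≤ P.asIdeal := by
  rw [Set.mem_compl_iff, Set.mem_singleton_iff, not_iff_not]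
  exact ⟨fun h => h ▸ le_rfl, fun h => PrimeSpectrum.ext (le_antisymm (le_maximalIdeal P.isPrime.ne_top) h)⟩

theorem nonempty_punctured_inter_iff (I : Ideal R) :
    (({closedPoint R}ᶜ : Set (PrimeSpectrum R)) ∩ PrimeSpectrum.zeroLocus I).Nonempty ↔
      ¬ maximalIdeal R ≤ I.radical := by
  constructor
  · rintro ⟨P, hP, hPI⟩ hle
    exact (mem_punctured_iff P).1 hP (hle.trans (P.isPrime.radical_le_iff.2 hPI))
  · intro h
    rw [Ideal.radical_eq_sInf, le_sInf_iff] at h
    push Not at h
    obtain ⟨P, ⟨hIP, hP⟩, hmP⟩ := h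
    exact ⟨⟨P, hP⟩, (mem_punctured_iff _).2 hmP, hIP⟩

theorem isPreconnected_punctured_iff :
    IsPreconnected ({closedPoint R}ᶜ : Set (PrimeSpectrum R)) ↔ ∀ I J : Ideal R, ¬ IsDecomp I J := by
  rw [isPreconnected_closed_iff]
  constructor
  · rintro h I J ⟨hIJ, hsum, hI, hJ⟩
    have := h _ _ (PrimeSpectrum.isClosed_zeroLocus (I : Set R)) (PrimeSpectrum.isClosed_zeroLocus (J : Set R))
      (fun P _ => by
        have : I * J ≤ P.asIdeal := hIJ.trans (nilradical_le_prime P.asIdeal)
        exact P.isPrime.mul_le.1 this)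
      ((nonempty_punctured_inter_iff I).2 hI) ((nonempty_punctured_inter_iff J).2 hJ)
    rw [← PrimeSpectrum.zeroLocus_sup, nonempty_punctured_inter_iff] at this
    exact this hsum
  · intro h t t' ht ht' hcover hne hne'
    obtain ⟨I, rfl⟩ := (PrimeSpectrum.isClosed_iff_zeroLocus_ideal t).1 ht
    obtain ⟨J, rfl⟩ := (PrimeSpectrum.isClosed_iff_zeroLocus_ideal t').1 ht'
    rw [nonempty_punctured_inter_iff] at hne hne'
    by_contra hempty
    rw [← PrimeSpectrum.zeroLocus_sup, nonempty_punctured_inter_iff, not_not] at hempty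
    refine h I J ⟨fun x hx => ?_, hempty, hne, hne'⟩
    rw [mem_nilradical, nilpotent_iff_mem_prime]
    intro P hP
    by_cases hm : maximalIdeal R ≤ P
    · refine hm ?_
      have hI : I ≠ ⊤ := fun e => hne (by simp [e, Ideal.radical_top])
      exact le_maximalIdeal hI (Ideal.mul_le_left hx)
    · rcases hcover ((mem_punctured_iff ⟨P, hP⟩).2 hm) with h1 | h1
      · exact h1 (Ideal.mul_le_left hx)
      · exact h1 (Ideal.mul_le_right hx)

/-- Punctured spectra of a henselian local ring and of a completion-like extension. -/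
theorem isPreconnected_punctured_iff_of_ext (S T : Type u) [CommRing S] [HenselianLocalRing S]
    [IsNoetherianRing S] [CommRing T] [IsLocalRing T] [IsNoetherianRing T] [Algebra S T]
    (hff : Module.FaithfullyFlat S T)
    (hm : (maximalIdeal S).map (algebraMap S T) = maximalIdeal T)
    (hres : ∀ t : T, ∃ s : S, t - algebraMap S T s ∈ maximalIdeal T) :
    IsPreconnected ({closedPoint T}ᶜ : Set (PrimeSpectrum T)) ↔
      IsPreconnected ({closedPoint S}ᶜ : Set (PrimeSpectrum S)) := by
  rw [isPreconnected_punctured_iff, isPreconnected_punctured_iff]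
  haveI := hff
  constructor
  · rintro h I J ⟨hIJ, hsum, hI, hJ⟩
    refine h (I.map (algebraMap S T)) (J.map (algebraMap S T)) ⟨?_, ?_, ?_, ?_⟩
    · rw [← Ideal.map_mul, Ideal.map_le_iff_le_comap]
      exact fun x hx => mem_nilradical.2 ((mem_nilradical.1 (hIJ hx)).map _)
    · rw [← Ideal.map_sup, ← hm]
      exact (Ideal.map_mono hsum).trans (Ideal.map_radical_le _)
    · intro hle
      refine hI ?_
      have := Ideal.map_le_iff_le_comap.1 (hm.le.trans hle)
      rwa [Ideal.comap_radical, Ideal.comap_map_eq_self_of_faithfullyFlat] at this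
    · intro hle
      refine hJ ?_
      have := Ideal.map_le_iff_le_comap.1 (hm.le.trans hle)
      rwa [Ideal.comap_radical, Ideal.comap_map_eq_self_of_faithfullyFlat] at this
  · rintro h I J hd
    obtain ⟨I₀, J₀, h₀⟩ := exists_decomp S T hff hm hres I J hd
    exact h I₀ J₀ h₀

end Groth.Agent.BrnchLib
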