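import Groth.Agent.Hensel.Henselization
import Groth.Agent.Hensel.IntegralStrict
import Groth.Agent.Hensel.HenselizationProps
import Mathlib.RingTheory.Flat.FaithfullyFlat.Algebra

/-! A strict henselization of the completion as a base change. -/

noncomputable section

namespace Groth.Agent.BrnchLib

universe u

open IsLocalRing TensorProduct

set_option linter.style.haveILetI false

theorem isStrictHenselization_baseChange (A S T S' : Type u) [CommRing A] [IsLocalRing A]
    [CommRing S] [HenselianLocalRing S] [Algebra A S] [IsLocalHom (algebraMap A S)] [_root_.Hensel.IsHenselization A S]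
    [CommRing T] [HenselianLocalRing T] [Algebra S T] [IsLocalHom (algebraMap S T)] [Module.FaithfullyFlat S T]
    (hres : ∀ t : T, ∃ s : S, t - algebraMap S T s ∈ maximalIdeal T)
    [CommRing S'] [IsLocalRing S'] [Algebra A S'] [IsLocalHom (algebraMap A S')]
    [_root_.Hensel.IsStrictHenselization A S'] [Algebra S S'] [IsScalarTower A S S'] [IsLocalHom (algebraMap S S')]
    [Algebra.IsIntegral S S'] :
    ∃ (_ : IsLocalRing (T ⊗[S] S')) (_ : IsLocalHom (algebraMap T (T ⊗[S] S'))),
      _root_.Hensel.IsStrictHenselization T (T ⊗[S] S') := by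
  have H : _root_.Hensel.IsStrictHenselization A S' := inferInstance
  let iR : S' →+* T ⊗[S] S' := (Algebra.TensorProduct.includeRight : S' →ₐ[S] T ⊗[S] S').toRingHom
  let iL : T →+* T ⊗[S] S' := algebraMap T (T ⊗[S] S')
  have hcomm : iR.comp (algebraMap S S') = iL.comp (algebraMap S T) := RingHom.ext fun a => by
    simp only [iR, iL, AlgHom.toRingHom_eq_coe, RingHom.comp_apply, RingHom.coe_coe, AlgHom.commutes, ← IsScalarTower.algebraMap_apply]
  have hdense : ∀ z : T ⊗[S] S', ∃ s' : S', z - iR s' ∈ (maximalIdeal T).map iL := fun z => by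
    induction z using TensorProduct.induction_on with
    | zero => exact ⟨0, by simp⟩
    | tmul t s' =>
      obtain ⟨a, ha⟩ := hres t
      refine ⟨algebraMap S S' a * s', ?_⟩
      have e : t ⊗ₜ[S] s' - iR (algebraMap S S' a * s') = iL (t - algebraMap S T a) * iR s' := by
        rw [map_mul iR, ← RingHom.comp_apply iR, hcomm, RingHom.comp_apply, map_sub, sub_mul]
        congr 1
        simp [iL, iR, Algebra.TensorProduct.algebraMap_apply]
      rw [e]
      exact Ideal.mul_mem_right _ _ (Ideal.mem_map_of_mem _ ha)
    | add x y hx hy =>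
      obtain ⟨a, ha⟩ := hx
      obtain ⟨b, hb⟩ := hy
      exact ⟨a + b, by rw [map_add, add_sub_add_comm]; exact add_mem ha hb⟩
  haveI : Nontrivial (T ⊗[S] S') :=
    haveI : Nontrivial (S' ⊗[S] T) := (FaithfulSMul.algebraMap_injective S' (S' ⊗[S] T)).nontrivial
    (Algebra.TensorProduct.comm S S' T).injective.nontrivial
  have hmax : ∀ n : Ideal (T ⊗[S] S'), n.IsMaximal → (maximalIdeal T).map iL ≤ n ∧ n.comap iR = maximalIdeal S' := by
    intro n hn
    haveI := hn
    have h1 : n.comap iL = maximalIdeal T := eq_maximalIdeal (Ideal.isMaximal_comap_of_isIntegral_of_isMaximal n)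
    refine ⟨Ideal.map_le_iff_le_comap.2 h1.ge, ?_⟩
    haveI : (n.comap iR).IsPrime := Ideal.IsPrime.comap iR
    refine eq_maximalIdeal (Ideal.isMaximal_of_isIntegral_of_isMaximal_comap (R := S) _ ?_)
    rw [Ideal.comap_comap, hcomm, ← Ideal.comap_comap, h1, maximalIdeal_comap]
    infer_instance
  obtain ⟨M, hM⟩ := Ideal.exists_maximal (T ⊗[S] S')
  haveI hloc : IsLocalRing (T ⊗[S] S') := by
    refine IsLocalRing.of_unique_max_ideal ⟨M, hM, fun N hN => ?_⟩
    ext z
    obtain ⟨s', hs'⟩ := hdense z
    rw [← sub_add_cancel z (iR s'), Ideal.add_mem_iff_right _ ((hmax N hN).1 hs'),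
      Ideal.add_mem_iff_right _ ((hmax M hM).1 hs'), ← Ideal.mem_comap, ← Ideal.mem_comap, (hmax N hN).2, (hmax M hM).2]
  haveI hlh : IsLocalHom (algebraMap T (T ⊗[S] S')) := Hensel.isLocalHom_of_isIntegral_local T _
  haveI hliR : IsLocalHom iR := ⟨fun s hs => by
    by_contra h
    exact ((hmax _ (maximalIdeal.isMaximal (T ⊗[S] S'))).2.ge h) hs⟩
  haveI hhens : HenselianLocalRing (T ⊗[S] S') := Hensel.henselianLocalRing_of_isIntegral_local T _
  have hres' : ∀ z : T ⊗[S] S', ∃ s' : S', residue _ z = residue _ (iR s') := fun z => by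
    obtain ⟨s', hs'⟩ := hdense z
    exact ⟨s', Ideal.Quotient.eq.2 (le_maximalIdeal (fun e => hM.ne_top (top_le_iff.1 (e ▸ (hmax M hM).1))) hs')⟩
  let ρ : ResidueField S' →+* ResidueField (T ⊗[S] S') := ResidueField.map iR
  have hρ : Function.Bijective ρ := ⟨ρ.injective, fun x => by
    obtain ⟨z, rfl⟩ := residue_surjective x
    obtain ⟨s', hs'⟩ := hres' z
    exact ⟨residue S' s', hs'.symm⟩⟩
  refine ⟨hloc, hlh, hhens, ?_, ?_⟩
  · haveI := H.isSepClosure
    haveI : IsSepClosed (ResidueField S') := IsSepClosure.sep_closed (ResidueField A)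
    refine ⟨Hensel.isSepClosed_of_ringEquiv (RingEquiv.ofBijective ρ hρ), ⟨fun x => ?_⟩⟩
    obtain ⟨y, rfl⟩ := hρ.2 x
    have hsep : IsSeparable (ResidueField A) y := Algebra.IsSeparable.isSeparable _ y
    obtain ⟨z, rfl⟩ := residue_surjective y
    letI : Algebra A T := ((algebraMap S T).comp (algebraMap A S)).toAlgebra
    haveI : IsLocalHom (algebraMap A T) := RingHom.isLocalHom_comp (algebraMap S T) (algebraMap A S)
    have hA : ∀ a : A, iR (algebraMap A S' a) = iL (algebraMap A T a) := fun a => by
      rw [IsScalarTower.algebraMap_apply A S S']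
      exact RingHom.congr_fun hcomm _
    let k : ResidueField A →+* ResidueField T := ResidueField.map (algebraMap A T)
    have hk : (algebraMap (ResidueField T) (ResidueField (T ⊗[S] S'))).comp k =
        ρ.comp (algebraMap (ResidueField A) (ResidueField S')) := RingHom.ext fun a => by
      obtain ⟨a, rfl⟩ := residue_surjective a
      exact congrArg (residue (T ⊗[S] S')) (hA a).symm
    change (minpoly (ResidueField T) (ρ (residue S' z))).Separable
    refine Polynomial.Separable.of_dvd (Polynomial.Separable.map hsep (f := k)) (minpoly.dvd _ _ ?_)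
    rw [Polynomial.aeval_def, Polynomial.eval₂_map, hk, ← Polynomial.hom_eval₂]
    exact (congrArg ρ (minpoly.aeval (ResidueField A) (residue S' z))).trans (map_zero ρ)
  · intro U _ _ f _ τ hτ
    have hτ0 : ∀ t : T, τ (residue _ (iL t)) = residue U (f t) := fun t => by
      have := RingHom.congr_fun hτ (residue T t)
      rwa [RingHom.comp_apply, ResidueField.map_residue, ResidueField.map_residue] at this
    let f0 : A →+* U := (f.comp (algebraMap S T)).comp (algebraMap A S)
    haveI hf1 : IsLocalHom (f.comp (algebraMap S T)) := RingHom.isLocalHom_comp f (algebraMap S T)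
    haveI hf0 : IsLocalHom f0 := RingHom.isLocalHom_comp _ (algebraMap A S)
    obtain ⟨g, ⟨hg, hgr⟩, huniq⟩ := H.universal U f0 (τ.comp ρ) (by
      refine RingHom.ext fun a => ?_
      obtain ⟨a, rfl⟩ := residue_surjective a
      change τ (residue _ (iR (algebraMap A S' a))) = residue U (f (algebraMap S T (algebraMap A S a)))
      rw [IsScalarTower.algebraMap_apply A S S', show iR (algebraMap S S' (algebraMap A S a)) = iL (algebraMap S T (algebraMap A S a)) from RingHom.congr_fun hcomm _, hτ0])
    have hgS : g.comp (algebraMap S S') = f.comp (algebraMap S T) := by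
      obtain ⟨g0, -, huniq0⟩ := _root_.Hensel.IsHenselization.universal (R := A) (S := S) U f0 hf0
      refine (huniq0 _ ?_).trans (huniq0 _ rfl).symm
      show (g.comp (algebraMap S S')).comp (algebraMap A S) = f0
      rw [RingHom.comp_assoc, ← IsScalarTower.algebraMap_eq, hg]
    letI : Algebra S U := (f.comp (algebraMap S T)).toAlgebra
    let fA : T →ₐ[S] U := { f with commutes' := fun _ => rfl }
    let gA : S' →ₐ[S] U := { g with commutes' := fun s => RingHom.congr_fun hgS s }
    let G : T ⊗[S] S' →ₐ[S] U := Algebra.TensorProduct.lift fA gA fun _ _ => Commute.all _ _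
    have hGL : ∀ t, G (iL t) = f t := fun t => by
      simp [G, iL, fA, Algebra.TensorProduct.algebraMap_apply]
    have hGR : ∀ s, G (iR s) = g s := fun s => by
      simp [G, iR, gA]
    refine ⟨G.toRingHom, ⟨RingHom.ext hGL, fun z => ?_⟩, fun G' hG' => ?_⟩
    · induction z using TensorProduct.induction_on with
      | zero => simp
      | tmul t s' =>
        rw [show t ⊗ₜ[S] s' = iL t * iR s' by simp [iL, iR, Algebra.TensorProduct.algebraMap_apply],
          map_mul, map_mul, map_mul, map_mul]
        exact congrArg₂ (· * ·) (congrArg (residue U) (hGL t) |>.trans (hτ0 t).symm)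
          ((congrArg (residue U) (hGR s')).trans (hgr s'))
      | add x y hx hy => simp only [map_add, hx, hy]
    · have hR : G'.comp iR = g := huniq _ ⟨RingHom.ext fun a => by
        change G' (iR (algebraMap A S' a)) = f (algebraMap S T (algebraMap A S a))
        rw [IsScalarTower.algebraMap_apply A S S', show iR (algebraMap S S' (algebraMap A S a)) = iL (algebraMap S T (algebraMap A S a)) from RingHom.congr_fun hcomm _]
        exact RingHom.congr_fun hG'.1 _, fun s => hG'.2 (iR s)⟩
      refine RingHom.ext fun z => ?_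
      induction z using TensorProduct.induction_on with
      | zero => simp
      | tmul t s' =>
        rw [show t ⊗ₜ[S] s' = iL t * iR s' by simp [iL, iR, Algebra.TensorProduct.algebraMap_apply],
          map_mul, map_mul]
        exact congrArg₂ (· * ·) ((RingHom.congr_fun hG'.1 t).trans (hGL t).symm)
          ((RingHom.congr_fun hR s').trans (hGR s').symm)
      | add x y hx hy => simp only [map_add, hx, hy]

end Groth.Agent.BrnchLib
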