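import Groth.Agent.BrnchLib.DimOneComp
import Groth.Agent.S9241

/-! Strict henselizations of a local ring and of a completion-like extension. -/

noncomputable section

namespace Groth.Agent.BrnchLib

universe u

open IsLocalRing

set_option linter.style.haveILetI false

/-- The map between strict henselizations over a completion-like extension. -/
theorem exists_sh_ext (A T : Type u) [CommRing A] [IsLocalRing A] [CommRing T] [IsLocalRing T]
    [Algebra A T] [IsLocalHom (algebraMap A T)] [Module.Flat A T]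
    (hm : (maximalIdeal A).map (algebraMap A T) = maximalIdeal T)
    (hres : Function.Bijective (ResidueField.map (algebraMap A T)))
    (S' : Type u) [CommRing S'] [IsLocalRing S'] [Algebra A S'] [IsLocalHom (algebraMap A S')]
    [hS' : _root_.Hensel.IsStrictHenselization A S']
    (S'' : Type u) [CommRing S''] [IsLocalRing S''] [Algebra T S''] [IsLocalHom (algebraMap T S'')]
    [hS'' : _root_.Hensel.IsStrictHenselization T S''] :
    ∃ g : S' →+* S'', g.comp (algebraMap A S') = (algebraMap T S'').comp (algebraMap A T) ∧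
      (letI := g.toAlgebra; Module.FaithfullyFlat S' S'') ∧
      (maximalIdeal S').map g = maximalIdeal S'' ∧ ∀ t : S'', ∃ s : S', t - g s ∈ maximalIdeal S'' := by
  letI : Algebra A S'' := ((algebraMap T S'').comp (algebraMap A T)).toAlgebra
  haveI : IsScalarTower A T S'' := IsScalarTower.of_algebraMap_eq' rfl
  haveI : IsLocalHom (algebraMap A S'') := RingHom.isLocalHom_comp (algebraMap T S'') (algebraMap A T)
  haveI : HenselianLocalRing S'' := hS''.henselian
  haveI : HenselianLocalRing S' := hS'.henselian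
  haveI : Algebra.WeaklyEtale T S'' := Groth.Agent.S0736.result _ _ (Groth.Agent.S12237.result _ S'')
  haveI : Algebra.WeaklyEtale A S' := Groth.Agent.S0736.result _ _ (Groth.Agent.S12237.result _ S')
  haveI : Module.Flat A S'' := Module.Flat.trans A T S''
  haveI := hS'.isSepClosure.separable
  haveI := hS''.isSepClosure.separable
  haveI := hS''.isSepClosure.sep_closed
  haveI : IsScalarTower (ResidueField A) (ResidueField T) (ResidueField S'') :=
    IsScalarTower.of_algebraMap_eq fun x => by
      obtain ⟨a, rfl⟩ := residue_surjective x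
      rfl
  haveI : Algebra.IsSeparable (ResidueField A) (ResidueField T) := ⟨fun x => by
    obtain ⟨y, rfl⟩ := hres.2 x
    exact isSeparable_algebraMap y⟩
  haveI : IsSepClosure (ResidueField A) (ResidueField S'') :=
    ⟨inferInstance, Algebra.IsSeparable.trans (ResidueField A) (ResidueField T) (ResidueField S'')⟩
  haveI := hS'.isSepClosure
  let τ : ResidueField S' ≃ₐ[ResidueField A] ResidueField S'' := IsSepClosure.equiv _ _ _
  obtain ⟨g, ⟨hg, hgτ⟩, -⟩ :=
    hS'.universal S'' (algebraMap A S'') τ.toAlgHom.toRingHom τ.toAlgHom.comp_algebraMap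
  refine ⟨g, hg, ?_, ?_, fun t => ?_⟩
  · letI := g.toAlgebra
    haveI : IsScalarTower A S' S'' := IsScalarTower.of_algebraMap_eq' hg.symm
    haveI : IsLocalHom (algebraMap S' S'') := ⟨fun x hx => by
      rw [← residue_ne_zero_iff_isUnit] at hx ⊢
      intro h0
      exact hx ((hgτ x).trans (by rw [h0, map_zero]))⟩
    haveI := Groth.Agent.S9239.flat_of_weaklyEtale A S' S''
    exact Module.FaithfullyFlat.of_flat_of_isLocalHom
  · rw [← Groth.Agent.Hensel.map_maximalIdeal_of_isStrictHenselization A S', Ideal.map_map, hg,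
      IsScalarTower.algebraMap_eq A T S'', ← Ideal.map_map, hm,
      Groth.Agent.Hensel.map_maximalIdeal_of_isStrictHenselization T S'']
  · obtain ⟨s, hs⟩ := residue_surjective (τ.symm (residue S'' t))
    refine ⟨s, Ideal.Quotient.eq.1 ?_⟩
    change residue S'' t = residue S'' (g s)
    exact (τ.apply_symm_apply (residue S'' t)).symm.trans ((congrArg τ hs).symm.trans (hgτ s).symm)

/-- The minimal primes over an ideal extended along a flat map. -/
theorem mem_minimalPrimes_map_iff_exists {R T : Type u} [CommRing R] [CommRing T] [Algebra R T]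
    [Module.Flat R T] (K : Ideal R) (Q : Ideal T) :
    Q ∈ (K.map (algebraMap R T)).minimalPrimes ↔
      ∃ q ∈ K.minimalPrimes, Q ∈ (q.map (algebraMap R T)).minimalPrimes := by
  set f := algebraMap R T
  constructor
  · intro hQ
    haveI := hQ.1.1
    obtain ⟨q, hq, hle⟩ := Ideal.exists_minimalPrimes_le (I := K) (J := Q.comap f)
      (Ideal.map_le_iff_le_comap.1 hQ.1.2)
    haveI := hq.1.1
    haveI : Q.LiesOver (Q.comap f) := ⟨rfl⟩
    obtain ⟨Q', hQ'le, hQ', ho⟩ := Ideal.exists_ideal_le_liesOver_of_le (p := q) (q := Q.comap f) Q hle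
    have e : Q = Q' := le_antisymm
      (hQ.2 ⟨hQ', Ideal.map_le_iff_le_comap.2 (hq.1.2.trans ho.over.le)⟩ hQ'le) hQ'le
    refine ⟨q, hq, ⟨⟨hQ.1.1, Ideal.map_le_iff_le_comap.2 (e ▸ ho.over.le)⟩, fun Q'' hQ'' hle' => ?_⟩⟩
    exact hQ.2 ⟨hQ''.1, (Ideal.map_mono hq.1.2).trans hQ''.2⟩ hle'
  · rintro ⟨q, hq, hQ⟩
    haveI := hQ.1.1
    haveI := hq.1.1
    haveI : Q.LiesOver (Q.comap f) := ⟨rfl⟩
    obtain ⟨Q', hQ'le, hQ', ho⟩ := Ideal.exists_ideal_le_liesOver_of_le (p := q) (q := Q.comap f) Q
      (Ideal.map_le_iff_le_comap.1 hQ.1.2)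
    have hc : Q.comap f = q := by
      have e : Q = Q' := le_antisymm (hQ.2 ⟨hQ', Ideal.map_le_iff_le_comap.2 ho.over.le⟩ hQ'le) hQ'le
      exact e ▸ ho.over.symm
    refine ⟨⟨hQ.1.1, (Ideal.map_mono hq.1.2).trans hQ.1.2⟩, fun R' hR' hle => ?_⟩
    haveI := hR'.1
    refine hQ.2 ⟨hR'.1, Ideal.map_le_iff_le_comap.2 ?_⟩ hle
    exact hq.2 ⟨Ideal.IsPrime.comap f, Ideal.map_le_iff_le_comap.1 hR'.2⟩ ((Ideal.comap_mono hle).trans hc.le)

end Groth.Agent.BrnchLib
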