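import Groth.Agent.Hensel.TensorHenzFinite
import Groth.Agent.Hensel.Henselization
import Mathlib.RingTheory.Etale.QuasiFinite

/-! The strict henselization is integral over the henselization. -/

noncomputable section

namespace Groth.Agent.BrnchLib

universe u

open IsLocalRing TensorProduct

set_option linter.style.haveILetI false

theorem isIntegral_of_isStrictHenselization (A S S' : Type u) [CommRing A] [IsLocalRing A] [CommRing S]
    [HenselianLocalRing S] [Algebra A S] [CommRing S'] [IsLocalRing S'] [Algebra A S'] [IsLocalHom (algebraMap A S')]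
    [_root_.Hensel.IsStrictHenselization A S'] [Algebra S S'] [IsScalarTower A S S'] [IsLocalHom (algebraMap S S')] :
    Algebra.IsIntegral S S' := by
  refine ⟨fun x => ?_⟩
  obtain ⟨e⟩ := Hensel.exists_algEquiv_strictHenz A S'
  obtain ⟨N, b, s, h⟩ := Hensel.Henz.exists_fraction (e.symm x)
  haveI := N.etale
  let φ : N.B →ₐ[A] S' := e.toAlgHom.comp ((Hensel.Henz.of N).comp (IsScalarTower.toAlgHom A N.B N.Stage))
  let χ : S ⊗[A] N.B →ₐ[S] S' := Algebra.TensorProduct.lift (Algebra.ofId S S') φ fun _ _ => Commute.all _ _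
  haveI : Algebra.Etale S (S ⊗[A] N.B) := inferInstance
  refine Hensel.isIntegral_mul_inv_of_stage χ (1 ⊗ₜ b) (1 ⊗ₜ (s : N.B)) x ?_ ?_
  · rw [show χ (1 ⊗ₜ (s : N.B)) = φ s by simp [χ]]
    refine IsUnit.map e ?_
    refine Hensel.Henz.isUnit_iff.mpr ?_
    show IsUnit (Hensel.Henz.proj A _ (Hensel.Henz.of N (algebraMap N.B N.Stage (s : N.B))))
    rw [
      Hensel.Henz.proj_of, Hensel.Nbhd.ρ_algebraMap]
    exact s.2
  · rw [show χ (1 ⊗ₜ (s : N.B)) = φ s by simp [χ], show χ (1 ⊗ₜ b) = φ b by simp [χ]]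
    have := congrArg e h
    rw [map_mul, AlgEquiv.apply_symm_apply] at this
    exact this

end Groth.Agent.BrnchLib
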