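import Groth.Agent.Hensel.HenselizationProps
import Groth.Prelude.Def_Hensel
import Mathlib.FieldTheory.SeparableClosure

/-! A strict henselization is a strict henselization of the henselization. -/

set_option linter.style.haveILetI false

namespace Groth.Agent.BrnchLib

universe u

open IsLocalRing

theorem isStrictHenselization_over_henselization (A Ah Ash : Type u) [CommRing A] [IsLocalRing A]
    [CommRing Ah] [IsLocalRing Ah] [Algebra A Ah] [IsLocalHom (algebraMap A Ah)] [hh : Hensel.IsHenselization A Ah]
    [CommRing Ash] [IsLocalRing Ash] [Algebra A Ash] [IsLocalHom (algebraMap A Ash)]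
    [hs : Hensel.IsStrictHenselization A Ash] [Algebra Ah Ash] [IsScalarTower A Ah Ash]
    [IsLocalHom (algebraMap Ah Ash)] : Hensel.IsStrictHenselization Ah Ash := by
  haveI := hs.isSepClosure
  haveI : Algebra.IsSeparable (ResidueField A) (ResidueField Ash) := IsSepClosure.separable
  refine ⟨hs.henselian, ⟨IsSepClosure.sep_closed (ResidueField A),
    Algebra.isSeparable_tower_top_of_isSeparable (ResidueField A) (ResidueField Ah) (ResidueField Ash)⟩,
    fun T _ _ f _ τ hτ => ?_⟩
  haveI : IsLocalHom (f.comp (algebraMap A Ah)) := RingHom.isLocalHom_comp f (algebraMap A Ah)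
  obtain ⟨g, ⟨hg, hgr⟩, huniq⟩ := hs.universal T (f.comp (algebraMap A Ah)) τ (by
    ext x
    obtain ⟨a, rfl⟩ := residue_surjective x
    have := RingHom.congr_fun hτ (residue Ah (algebraMap A Ah a))
    rw [RingHom.comp_apply, ResidueField.map_residue, ResidueField.map_residue, ← IsScalarTower.algebraMap_apply] at this
    exact this)
  obtain ⟨g₀, -, hu⟩ := hh.universal T (f.comp (algebraMap A Ah)) inferInstance
  have he : g.comp (algebraMap Ah Ash) = f :=
    (hu _ (by show (g.comp (algebraMap Ah Ash)).comp (algebraMap A Ah) = _; rw [RingHom.comp_assoc, ← IsScalarTower.algebraMap_eq, hg])).trans (hu f rfl).symm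
  exact ⟨g, ⟨he, hgr⟩, fun g₁ hg₁ => huniq g₁ ⟨by rw [IsScalarTower.algebraMap_eq A Ah Ash, ← RingHom.comp_assoc, hg₁.1], hg₁.2⟩⟩

end Groth.Agent.BrnchLib
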