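import Groth.Agent.BrnchLib.MinBij
import Groth.Agent.EGA41Lib.IntDim
import Mathlib.RingTheory.Ideal.GoingDown
import Mathlib.RingTheory.Ideal.Height

/-! Dimensions of the components of a henselization and heights in the normalization. -/

noncomputable section

namespace Groth.Agent.BrnchLib

universe u

open IsLocalRing TensorProduct

set_option linter.style.haveILetI false

theorem coe_height_eq_krullDim {R : Type u} [CommRing R] (n : PrimeSpectrum R) :
    (n.asIdeal.height : WithBot ℕ∞) = Order.krullDim (Set.Iic n) := by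
  rw [PrimeSpectrum.height_eq_orderHeight, Order.height_eq_krullDim_Iic]

/-- A component whose generic point has a unique closed specialization has the dimension of its height. -/
theorem ringKrullDim_quotient_eq_height {R : Type u} [CommRing R] {P n : Ideal R} [n.IsMaximal]
    (huniq : ∀ m : Ideal R, m.IsMaximal → P ≤ m → m = n)
    (hmin : ∀ q ∈ minimalPrimes R, q ≤ n → q = P) :
    ringKrullDim (R ⧸ P) = n.height := by
  rw [show (n.height : WithBot ℕ∞) = ((⟨n, inferInstance⟩ : PrimeSpectrum R).asIdeal.height : WithBot ℕ∞) from rfl,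
    coe_height_eq_krullDim, ringKrullDim_quotient]
  refine Order.krullDim_eq_of_orderIso (OrderIso.setCongr _ _ (Set.ext fun Q => ?_))
  rw [PrimeSpectrum.mem_zeroLocus, SetLike.coe_subset_coe, Set.mem_Iic]
  constructor
  · intro hPQ
    obtain ⟨M, hM, hle⟩ := Ideal.exists_le_maximal Q.asIdeal Q.isPrime.ne_top
    exact huniq M hM (hPQ.trans hle) ▸ hle
  · intro hQn
    haveI := Q.isPrime
    obtain ⟨q, hq, hle⟩ := Ideal.exists_minimalPrimes_le (I := (⊥ : Ideal R)) (J := Q.asIdeal) bot_le
    exact hmin q hq (hle.trans hQn) ▸ hle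

/-- Dimensions of the components through an integral cover. -/
theorem forall_two_le_iff_tensor (A : Type u) [CommRing A] [IsLocalRing A] (S : Type u) [CommRing S]
    [IsLocalRing S] [Algebra A S] [IsLocalHom (algebraMap A S)] [HenselianLocalRing S]
    (hH : Groth.Agent.Hensel.IsHenzLike A S)
    (B : Type u) [CommRing B] [Algebra A B] [Algebra.IsIntegral A B]
    (hdom : ∀ n : Ideal (S ⊗[A] B), ∀ [n.IsMaximal], IsDomain (Localization.AtPrime n))
    (hmin : Set.BijOn (Ideal.comap (algebraMap A B)) (minimalPrimes B) (minimalPrimes A))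
    (hbir : ∀ P ∈ minimalPrimes B, ∀ b : B, ∃ a a₀ : A, algebraMap A B a ∉ P ∧
      algebraMap A B a * b - algebraMap A B a₀ ∈ P) (d : WithBot ℕ∞) :
    (∀ p ∈ minimalPrimes S, d ≤ ringKrullDim (S ⧸ p)) ↔
      ∀ m : MaximalSpectrum B, d ≤ ringKrullDim (Localization.AtPrime m.asIdeal) := by
  obtain ⟨hbij, h2, h3⟩ := minimalPrimes_tensor A S hH B hdom hmin hbir
  haveI := hH.faithfullyFlat
  let iR : B →+* S ⊗[A] B := (Algebra.TensorProduct.includeRight : B →ₐ[A] S ⊗[A] B).toRingHom
  let iL : S →+* S ⊗[A] B := algebraMap S (S ⊗[A] B)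
  have hcomm : iR.comp (algebraMap A B) = iL.comp (algebraMap A S) := RingHom.ext fun a => by
    simp only [iR, iL, AlgHom.toRingHom_eq_coe, RingHom.comp_apply, RingHom.coe_coe, AlgHom.commutes, ← IsScalarTower.algebraMap_apply]
  letI : Algebra B (S ⊗[A] B) := iR.toAlgebra
  haveI : Module.FaithfullyFlat B (S ⊗[A] B) :=
    Module.FaithfullyFlat.of_linearEquiv B (B ⊗[A] S)
      (LinearEquiv.symm
        { (Algebra.TensorProduct.comm A B S).toAddEquiv with
          map_smul' := fun b x => by
            change Algebra.TensorProduct.comm A B S (b • x) = iR b * Algebra.TensorProduct.comm A B S x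
            rw [Algebra.smul_def, map_mul]
            simp [iR] })
  -- the fibres are discrete
  have hstrict : StrictMono (PrimeSpectrum.comap iR) := fun Q Q' h => by
    refine lt_of_le_of_ne (Ideal.comap_mono h.le) fun e => ?_
    haveI := Q.isPrime
    haveI := Q'.isPrime
    have hS : Q.asIdeal.comap iL = Q'.asIdeal.comap iL := by
      refine hH.eq_of_le_of_comap_eq (Ideal.comap_mono h.le) ?_
      rw [Ideal.comap_comap, Ideal.comap_comap, ← hcomm, ← Ideal.comap_comap, ← Ideal.comap_comap]
      exact congrArg (fun x => x.asIdeal.comap (algebraMap A B)) e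
    exact (Ideal.IsIntegral.comap_lt_comap (R := S) (I := Q.asIdeal) (J := Q'.asIdeal) h).ne hS
  have hheight : ∀ (n : Ideal (S ⊗[A] B)) (m : MaximalSpectrum B), n.IsMaximal → n.comap iR = m.asIdeal →
      ringKrullDim (Localization.AtPrime m.asIdeal) = n.height := by
    intro n m hn hnm
    rw [IsLocalization.AtPrime.ringKrullDim_eq_height m.asIdeal, WithBot.coe_inj]
    haveI := hn
    let N : PrimeSpectrum (S ⊗[A] B) := ⟨n, hn.isPrime⟩
    let M : PrimeSpectrum B := ⟨m.asIdeal, inferInstance⟩
    have hNM : PrimeSpectrum.comap iR N = M := PrimeSpectrum.ext hnm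
    rw [show n.height = N.asIdeal.height from rfl, show m.asIdeal.height = M.asIdeal.height from rfl,
      PrimeSpectrum.height_eq_orderHeight, PrimeSpectrum.height_eq_orderHeight]
    refine le_antisymm (Order.height_le fun l hl => ?_) ?_
    · haveI : n.LiesOver l.last.asIdeal := ⟨(congrArg PrimeSpectrum.asIdeal hl).trans hnm.symm⟩
      obtain ⟨L, hL, hLl, -⟩ := Ideal.exists_ltSeries_of_hasGoingDown l n
      rw [← hL]
      exact Order.length_le_height hLl.le
    · rw [← hNM]
      exact Order.height_le_height_apply_of_strictMono _ hstrict N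
  -- the dimension of a component
  have hdim : ∀ (P : Ideal (S ⊗[A] B)) (n : Ideal (S ⊗[A] B)), P ∈ minimalPrimes (S ⊗[A] B) → n.IsMaximal → P ≤ n →
      ringKrullDim (S ⧸ P.comap iL) = n.height := by
    intro P n hP hn hle
    haveI := hn
    rw [← ringKrullDim_quotient_eq_height (P := P) (n := n)
      (fun m hm hPm => (h2 P hP).unique ⟨hm, hPm⟩ ⟨hn, hle⟩)
      (fun q hq hqn => (h3 n hn).unique ⟨hq, hqn⟩ ⟨hP, hle⟩)]
    letI : Algebra (S ⧸ P.comap iL) ((S ⊗[A] B) ⧸ P) := (Ideal.quotientMap P iL le_rfl).toAlgebra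
    haveI : IsScalarTower S (S ⧸ P.comap iL) ((S ⊗[A] B) ⧸ P) := IsScalarTower.of_algebraMap_eq fun _ => rfl
    haveI : Algebra.IsIntegral (S ⧸ P.comap iL) ((S ⊗[A] B) ⧸ P) := Algebra.IsIntegral.tower_top (R := S)
    exact (EGA41Lib.ringKrullDim_eq_of_integral (Ideal.quotientMap_injective' (H := le_rfl) le_rfl)).symm
  constructor
  · intro h m
    obtain ⟨Q, hQ⟩ := PrimeSpectrum.comap_surjective_of_faithfullyFlat (B := S ⊗[A] B) (⟨m.asIdeal, inferInstance⟩ : PrimeSpectrum B)
    obtain ⟨n, hn, hle⟩ := Ideal.exists_le_maximal Q.asIdeal Q.isPrime.ne_top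
    have hnm : n.comap iR = m.asIdeal :=
      (m.isMaximal.eq_of_le (Ideal.comap_ne_top _ hn.ne_top)
        ((congrArg PrimeSpectrum.asIdeal hQ).ge.trans (Ideal.comap_mono hle))).symm
    obtain ⟨P, ⟨hP, hPn⟩, -⟩ := h3 n hn
    rw [hheight n m hn hnm, ← hdim P n hP hn hPn]
    exact h _ (hbij.mapsTo hP)
  · intro h p hp
    obtain ⟨P, hP, rfl⟩ := hbij.surjOn hp
    obtain ⟨n, ⟨hn, hPn⟩, -⟩ := h2 P hP
    have hmax : (n.comap iR).IsMaximal := by
      haveI := hn
      haveI : (n.comap iR).IsPrime := Ideal.IsPrime.comap iR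
      refine Ideal.isMaximal_of_isIntegral_of_isMaximal_comap (R := A) _ ?_
      rw [Ideal.comap_comap, hcomm, ← Ideal.comap_comap,
        IsLocalRing.eq_maximalIdeal (Ideal.isMaximal_comap_of_isIntegral_of_isMaximal (R := S) n),
        IsLocalRing.maximalIdeal_comap]
      infer_instance
    have := h ⟨n.comap iR, hmax⟩
    rw [hheight n ⟨_, hmax⟩ hn rfl, ← hdim P n hP hn hPn] at this
    exact this

end Groth.Agent.BrnchLib
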